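import Groth.Agent.Lib.SurfPairing
import Groth.Agent.Lib.SmoothEquidim
import Groth.Agent.Lib.AVIndex
import Groth.Agent.S1582
import Groth.Agent.CurveFin.RelDim
import Groth.Agent.CurveCohLib.SmoothCurve
import Groth.Agent.CurveFF.Degree
import Groth.Agent.CurveCover.PointBundle
import Groth.Agent.H23.PicMul

/-! The square of a curve: basic facts, and classes of invertible modules. -/

set_option autoImplicit false
set_option linter.style.haveILetI false
set_option linter.unusedSectionVars false
set_option backward.isDefEq.respectTransparency false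
set_option backward.isDefEq.respectTransparency.types false
set_option maxHeartbeats 1000000
set_option synthInstance.maxHeartbeats 400000

universe u

open CategoryTheory CategoryTheory.Limits AlgebraicGeometry TopologicalSpace Opposite

noncomputable section

namespace Groth.Agent.H28.Hyp

open Groth.Agent Groth.Agent.H23
open scoped Groth.Agent.H23.PicMul

/-- The classes of invertible modules. -/
def inv (X : Scheme.{u}) : Submonoid (PicF.Cl X) where
  carrier := {c | ∃ L, PicF.IsInvertible L ∧ PicF.cl L = c}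
  one_mem' := ⟨_, InvX.isInvertible_structureModule, rfl⟩
  mul_mem' := by
    rintro _ _ ⟨L, hL, rfl⟩ ⟨M, hM, rfl⟩
    exact ⟨_, PicMul.isInvertible_tensor hL hM, rfl⟩

theorem cl_mem {X : Scheme.{u}} {L : X.Modules} (hL : PicF.IsInvertible L) : PicF.cl L ∈ inv X := ⟨L, hL, rfl⟩

theorem pullCl_mem {X Y : Scheme.{u}} (g : Y ⟶ X) {c : PicF.Cl X} (hc : c ∈ inv X) : PicF.pullCl g c ∈ inv Y := by
  obtain ⟨L, hL, rfl⟩ := hc
  exact ⟨_, PicClLib.isInvertible_pullback g hL, rfl⟩

theorem exists_inv {X : Scheme.{u}} {c : PicF.Cl X} (hc : c ∈ inv X) : ∃ d ∈ inv X, c * d = 1 := by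
  obtain ⟨L, hL, rfl⟩ := hc
  obtain ⟨N, hN, ⟨e⟩⟩ := H23.PicInv.exists_inverse hL
  exact ⟨_, cl_mem hN, (PicMul.cl_tensor L N).symm.trans ((PicGrp.cl_eq_cl_iff _ _).2 ⟨e⟩)⟩

section Pair

variable (k : Type u) [Field k] {X : Scheme.{u}} [X.Over (Spec (CommRingCat.of k))]
  [IsProper (X ↘ Spec (CommRingCat.of k))] (hdim : topologicalKrullDim X ≤ 2)
include hdim

theorem third {a b c : PicF.Cl X} (ha : a ∈ inv X) (hb : b ∈ inv X) (hc : c ∈ inv X) :
    SurfPairing.χ k (a * b * c) - SurfPairing.χ k (a * b) - SurfPairing.χ k (a * c) - SurfPairing.χ k (b * c) +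
      SurfPairing.χ k a + SurfPairing.χ k b + SurfPairing.χ k c - SurfPairing.χ k (1 : PicF.Cl X) = 0 := by
  obtain ⟨A, hA, rfl⟩ := ha
  obtain ⟨B, hB, rfl⟩ := hb
  obtain ⟨C, hC, rfl⟩ := hc
  exact SurfPairing.third_diff k hdim hA hB hC

theorem pair_mul {a b c : PicF.Cl X} (ha : a ∈ inv X) (hb : b ∈ inv X) (hc : c ∈ inv X) :
    SurfPairing.pair k a (b * c) = SurfPairing.pair k a b + SurfPairing.pair k a c := by
  obtain ⟨A, hA, rfl⟩ := ha
  obtain ⟨B, hB, rfl⟩ := hb
  obtain ⟨C, hC, rfl⟩ := hc
  exact SurfPairing.pair_mul k hdim hA hB hC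

theorem pair_pow {a b : PicF.Cl X} (ha : a ∈ inv X) (hb : b ∈ inv X) (n : ℕ) :
    SurfPairing.pair k a (b ^ n) = n * SurfPairing.pair k a b := by
  induction n with
  | zero => rw [pow_zero, SurfPairing.pair_one]; simp
  | succ n ih =>
    rw [pow_succ, pair_mul k hdim ha (Submonoid.pow_mem _ hb n) hb, ih]
    push_cast
    ring

theorem pair_inv {a b b' : PicF.Cl X} (ha : a ∈ inv X) (hb : b ∈ inv X) (hb' : b' ∈ inv X) (h : b * b' = 1) :
    SurfPairing.pair k a b' = -SurfPairing.pair k a b := by
  have := pair_mul k hdim ha hb hb'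
  rw [h, SurfPairing.pair_one] at this
  omega

end Pair

section Square

variable (k : Type u) [Field k] [IsAlgClosed k] (C : Scheme.{u}) [C.Over (Spec (CommRingCat.of k))]

/-- The square of the curve. -/
abbrev Sq : Scheme.{u} := pullback (C ↘ Spec (CommRingCat.of k)) (C ↘ Spec (CommRingCat.of k))

/-- The first projection. -/
abbrev p₁ : Sq k C ⟶ C := pullback.fst _ _

/-- The second projection. -/
abbrev p₂ : Sq k C ⟶ C := pullback.snd _ _

/-- The structure morphism of the square. -/
instance (priority := high) overSq : (Sq k C).Over (Spec (CommRingCat.of k)) :=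
  ⟨pullback.fst (C ↘ Spec (CommRingCat.of k)) (C ↘ Spec (CommRingCat.of k)) ≫ (C ↘ Spec (CommRingCat.of k))⟩

variable [IsProper (C ↘ Spec (CommRingCat.of k))] [Smooth (C ↘ Spec (CommRingCat.of k))] [ConnectedSpace ↥C]

instance isProper_sq : IsProper ((Sq k C) ↘ Spec (CommRingCat.of k)) :=
  inferInstanceAs (IsProper (pullback.fst (C ↘ Spec (CommRingCat.of k)) (C ↘ Spec (CommRingCat.of k)) ≫
    (C ↘ Spec (CommRingCat.of k))))

instance smooth_sq : Smooth ((Sq k C) ↘ Spec (CommRingCat.of k)) :=
  inferInstanceAs (Smooth (pullback.fst (C ↘ Spec (CommRingCat.of k)) (C ↘ Spec (CommRingCat.of k)) ≫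
    (C ↘ Spec (CommRingCat.of k))))

include k in
theorem isIntegral : IsIntegral C := by
  haveI := QuasiCompact.compactSpace_of_compactSpace (C ↘ Spec (CommRingCat.of k))
  exact CurveCohLib.isIntegral_of_smooth_connected (C ↘ Spec (CommRingCat.of k))

theorem isIntegral_sq : IsIntegral (Sq k C) :=
  haveI := isIntegral k C
  S1582.result k C C _ _

theorem finrank_h0 : Module.finrank k (Coh.HH C (Coh.structureModule C) 0) = 1 := by
  haveI := isIntegral k C
  haveI := CurveCohLib.isNoetherian_of_proper (k := k) (X := C)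
  exact CurveCohLib.Clifford.finrank_h0_structure k (X := C)

variable (hdim : topologicalKrullDim ↥C = 1)
include hdim

theorem smoothRel_sq : SmoothOfRelativeDimension 2 ((Sq k C) ↘ Spec (CommRingCat.of k)) := by
  haveI := isIntegral k C
  haveI : SmoothOfRelativeDimension 1 (C ↘ Spec (CommRingCat.of k)) :=
    CurveFin.smoothOfRelativeDimension_of_dim (f := C ↘ Spec (CommRingCat.of k)) (d := 1) hdim
  haveI := smoothOfRelativeDimension_isStableUnderBaseChange (n := 1)
  haveI : SmoothOfRelativeDimension 1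
      (pullback.fst (C ↘ Spec (CommRingCat.of k)) (C ↘ Spec (CommRingCat.of k))) :=
    MorphismProperty.pullback_fst _ _ inferInstance
  exact inferInstanceAs (SmoothOfRelativeDimension (1 + 1)
    (pullback.fst (C ↘ Spec (CommRingCat.of k)) (C ↘ Spec (CommRingCat.of k)) ≫ (C ↘ Spec (CommRingCat.of k))))

theorem dim_sq : topologicalKrullDim ↥(Sq k C) = 2 := by
  haveI := isIntegral_sq k C
  haveI := smoothRel_sq k C hdim
  rw [← IsHomeomorph.topologicalKrullDim_eq _ (Homeomorph.Set.univ ↥(Sq k C)).isHomeomorph]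
  refine (SmoothEquidim.dim_component ((Sq k C) ↘ Spec (CommRingCat.of k)) 2 Set.univ ?_).trans ?_
  · rw [irreducibleComponents_eq_singleton]
    exact Set.mem_singleton _
  · rfl

theorem euler_structure : SurfPairing.χ k (1 : PicF.Cl C) = 1 - (Curv2.genus k C : ℤ) := by
  haveI := isIntegral k C
  rw [SurfPairing.χ_one]
  exact CurveDuality.euler_structure k (finrank_h0 k C) hdim

theorem exists_point : ∃ c ∈ inv C, SurfPairing.χ k c = SurfPairing.χ k (1 : PicF.Cl C) + 1 := by
  haveI := isIntegral k C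
  haveI := CurveCohLib.isNoetherian_of_proper (k := k) (X := C)
  haveI := QuasiCompact.compactSpace_of_compactSpace (C ↘ Spec (CommRingCat.of k))
  haveI : JacobsonSpace C := LocallyOfFiniteType.jacobsonSpace (C ↘ Spec (CommRingCat.of k))
  obtain ⟨O, -, hO⟩ := nonempty_inter_closedPoints (Z := (Set.univ : Set C)) ⟨genericPoint C, trivial⟩
    isClosed_univ.isLocallyClosed
  have hr : letI := Curv2.resAlgebra k C O; Module.finrank k (C.residueField O) = 1 := by
    letI := Curv2.resAlgebra k C O
    have hb : Function.Bijective (Algebra.linearMap k (C.residueField O)) :=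
      ⟨(Curv2.resMap k C O).injective, CurveSection.surjective_resMap k hO⟩
    rw [← (LinearEquiv.ofBijective _ hb).finrank_eq, Module.finrank_self]
  obtain ⟨M, -, hM, hd, -⟩ := CurveCover.exists_point_bundle k hdim (O := O) hO hr
  refine ⟨_, cl_mem hM, ?_⟩
  rw [SurfPairing.χ_cl, SurfPairing.χ_one]
  unfold Curv2.deg at hd
  omega

end Square

end Groth.Agent.H28.Hyp
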