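import Groth.Agent.H28.Hyp.Num2
import Groth.Agent.CurveCohLib.Euler
import Groth.Agent.CurveCohLib.Clifford
import Groth.Agent.PnCoh.PushNat

/-! Cohomology of the modules `F_m ⊗ N^r` on the square of a hyperelliptic curve. -/

set_option autoImplicit false
set_option linter.style.haveILetI false
set_option linter.unusedSectionVars false
set_option backward.isDefEq.respectTransparency false
set_option backward.isDefEq.respectTransparency.types false
set_option maxHeartbeats 1000000
set_option synthInstance.maxHeartbeats 400000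

universe u

open CategoryTheory CategoryTheory.Limits AlgebraicGeometry TopologicalSpace Opposite
open Groth.Agent.PnCoh.Finite (mapLin deltaLin)

noncomputable section

namespace Groth.Agent.H28.Hyp

open Groth.Agent Groth.Agent.H23
open scoped Groth.Agent.H23.PicMul

/-- The dimensions of the cohomology of a class. -/
def hh (k : Type u) [Field k] {X : Scheme.{u}} [X.Over (Spec (CommRingCat.of k))] (i : ℕ) : PicF.Cl X → ℕ :=
  Quot.lift (fun L => Module.finrank k (Coh.HH X L i))
    fun _ _ ⟨e⟩ => (CurveCohLib.hhEquiv (k := k) e i).finrank_eq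

theorem hh_cl (k : Type u) [Field k] {X : Scheme.{u}} [X.Over (Spec (CommRingCat.of k))] (i : ℕ) (L : X.Modules) :
    hh k i (PicF.cl L) = Module.finrank k (Coh.HH X L i) := rfl

/-- Rank bookkeeping along the long exact sequence. -/
theorem les (k : Type u) [Field k] {X : Scheme.{u}} [X.Over (Spec (CommRingCat.of k))] {S : ShortComplex X.Modules}
    (hS : S.ShortExact) (hfin₁ : ∀ n, Module.Finite k (Coh.HH X S.X₁ n))
    (hfin₂ : ∀ n, Module.Finite k (Coh.HH X S.X₂ n)) (hfin₃ : ∀ n, Module.Finite k (Coh.HH X S.X₃ n)) :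
    ∃ d : ℕ → ℕ, d 0 = 0 ∧ ∀ n, d n ≤ Module.finrank k (Coh.HH X S.X₁ n) ∧
      d (n + 1) ≤ Module.finrank k (Coh.HH X S.X₃ n) ∧
      Module.finrank k (Coh.HH X S.X₁ n) + Module.finrank k (Coh.HH X S.X₃ n) =
        Module.finrank k (Coh.HH X S.X₂ n) + d n + d (n + 1) := by
  refine ⟨fun n => Module.finrank k (LinearMap.ker (mapLin k S.f n)), ?_, fun n => ?_⟩
  · show Module.finrank k (LinearMap.ker (mapLin k S.f 0)) = 0
    rw [LinearMap.ker_eq_bot.2 (CurveCohLib.mapLin_f_zero_injective k hS), finrank_bot]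
  · have := hfin₁ n
    have := hfin₂ n
    have := hfin₃ n
    have e1 := LinearMap.finrank_range_add_finrank_ker (mapLin k S.f n)
    have e2 := LinearMap.finrank_range_add_finrank_ker (mapLin k S.g n)
    have e3 := LinearMap.finrank_range_add_finrank_ker (deltaLin k hS n)
    rw [CurveCohLib.ker_mapLin_g k hS n] at e2
    rw [CurveCohLib.ker_deltaLin k hS n, ← CurveCohLib.ker_mapLin_f_succ k hS n] at e3
    dsimp only
    omega

theorem finrank_over_congr {k : Type u} [Field k] {Z : Scheme.{u}} (a b : Z ⟶ Spec (CommRingCat.of k)) (h : a = b)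
    (M : Z.Modules) (n : ℕ) :
    (letI : Z.Over (Spec (CommRingCat.of k)) := ⟨a⟩; Module.finrank k (Coh.HH Z M n)) =
      (letI : Z.Over (Spec (CommRingCat.of k)) := ⟨b⟩; Module.finrank k (Coh.HH Z M n)) := by
  subst h; rfl

variable (k : Type u) [Field k] [IsAlgClosed k] (C : Scheme.{u}) [C.Over (Spec (CommRingCat.of k))]
  [IsProper (C ↘ Spec (CommRingCat.of k))] [Smooth (C ↘ Spec (CommRingCat.of k))] [ConnectedSpace ↥C]
  (hdim : topologicalKrullDim ↥C = 1)
include hdim

/-- The ideal sequence of a curve in the square, twisted. -/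
theorem seq (i : C ⟶ Sq k C) [IsClosedImmersion i] (hi : i ≫ p₁ k C = 𝟙 C) {c : PicF.Cl (Sq k C)}
    (hc : c ∈ inv (Sq k C)) :
    ∃ d : ℕ → ℕ, d 0 = 0 ∧ ∀ n, d n ≤ hh k n (c * cI i) ∧ d (n + 1) ≤ hh k n (PicF.pullCl i c) ∧
      hh k n (c * cI i) + hh k n (PicF.pullCl i c) = hh k n c + d n + d (n + 1) := by
  obtain ⟨M, hM, rfl⟩ := hc
  haveI := CurveCohLib.isNoetherian_of_proper (k := k) (X := Sq k C)
  haveI := CurveCohLib.isNoetherian_of_proper (k := k) (X := C)
  have hI := isInvertible_ideal_curve k C hdim i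
  haveI := CurveOnSurf.isEquivalence_tensor hM
  haveI : Mono (ClSub.idealModι i.ker) := inferInstanceAs (Mono (kernel.ι _))
  haveI : Mono (DivisorExt.mulIdeal i.ker M) := by
    haveI : Mono ((DCoh.tensorBi.obj M).map (ClSub.idealModι i.ker)) := inferInstance
    exact mono_comp _ _
  obtain ⟨e₁⟩ := DivisorExt.nonempty_cokernel_mulIdeal i.ker M
  obtain ⟨e₂⟩ := DivisorExt.nonempty_quotMod_iso i
  obtain ⟨c⟩ := PicMul.comm M ((Scheme.Modules.pushforward i).obj (Coh.structureModule C))
  haveI := KFlatLib.isIso_projMod_of_isClosedImmersion i (Coh.structureModule C) M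
  obtain ⟨u⟩ := PicMul.comm (Coh.structureModule C) ((Scheme.Modules.pullback i).obj M)
  let e : cokernel (DivisorExt.mulIdeal i.ker M) ≅ (Coh.push i).obj ((Scheme.Modules.pullback i).obj M) :=
    e₁ ≪≫ (DCoh.tensorBi.obj M).mapIso e₂ ≪≫ c ≪≫ asIso (KFlatLib.projMod i (Coh.structureModule C) M) ≪≫
      (Scheme.Modules.pushforward i).mapIso (u ≪≫ KFlatLib.tensorUnitIso _)
  have hiM : PicF.IsInvertible ((Scheme.Modules.pullback i).obj M) := PicClLib.isInvertible_pullback i hM
  have hA : Coh.IsCoh ((SheafHomX.ten (ClSub.idealMod i.ker)).obj M) := by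
    rw [CurveOnSurf.ten_obj]
    exact AmpleVan.isCoh_invertible (PicMul.isInvertible_tensor hM hI)
  let S := ShortComplex.mk (DivisorExt.mulIdeal i.ker M) (cokernel.π _) (cokernel.condition _)
  have hS : S.ShortExact := { exact := ShortComplex.exact_of_g_is_cokernel _ (cokernelIsCokernel _) }
  have hB : Coh.IsCoh M := AmpleVan.isCoh_invertible hM
  have hQ : Coh.IsCoh (cokernel (DivisorExt.mulIdeal i.ker M)) := QCoh.isCoh_cokernel hA.1 hB _
  obtain ⟨d, hd0, hd⟩ := les k hS (fun n => CurveCohLib.finite_HH hA n) (fun n => CurveCohLib.finite_HH hB n)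
    (fun n => CurveCohLib.finite_HH hQ n)
  refine ⟨d, hd0, fun n => ?_⟩
  have e3 : Module.finrank k (Coh.HH (Sq k C) S.X₃ n) = hh k n (PicF.pullCl i (PicF.cl M)) := by
    refine ((CurveCohLib.hhEquiv (k := k) e n).finrank_eq).trans ?_
    obtain ⟨a⟩ := PnCoh.exists_linearEquiv_push k i
      (show i ≫ (p₁ k C ≫ (C ↘ Spec (CommRingCat.of k))) = _ by rw [← Category.assoc, hi, Category.id_comp])
      (AmpleVan.isCoh_invertible hiM).1 n
    exact a.finrank_eq.symm
  rw [← e3]
  exact hd n

/-- Box products of nonspecial modules have no higher cohomology. -/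
theorem hh_box {a b : PicF.Cl C} (ha : a ∈ inv C) (hb : b ∈ inv C) (ha1 : hh k 1 a = 0) (hb1 : hh k 1 b = 0)
    (n : ℕ) (hn : 1 ≤ n) : hh k n (q₁ k C a * q₂ k C b) = 0 := by
  haveI := isIntegral k C
  obtain ⟨L, hL, rfl⟩ := ha
  obtain ⟨D, hD, rfl⟩ := hb
  haveI := CurveCohLib.isNoetherian_of_proper (k := k) (X := C)
  haveI : C.IsSeparated := ⟨by
    rw [← terminal.comp_from (C ↘ Spec (CommRingCat.of k))]; infer_instance⟩
  have hz : ∀ {M : C.Modules}, PicF.IsInvertible M → hh k 1 (PicF.cl M) = 0 → ∀ j, 1 ≤ j →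
      Subsingleton (Coh.HH C M j) := fun {M} hM h1 j hj => by
    obtain rfl | h2 : j = 1 ∨ 1 < j := by omega
    · haveI := CurveCohLib.finite_HH (k := k) (CurveDeg.isCoh_of_isInvertible hM) 1
      exact Module.finrank_zero_iff.1 h1
    · exact Snapper.subsingleton_HH_of_dim_le (d := 1) hdim.le (CurveDeg.isCoh_of_isInvertible hM).1 h2
  set g := C ↘ Spec (CommRingCat.of k) with hg
  haveI : HasInjectiveResolutions C.Modules := KFlatLib.hasInjectiveResolutions_modules
  haveI : HasInjectiveResolutions (Sq k C).Modules := KFlatLib.hasInjectiveResolutions_modules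
  haveI : IsLocallyNoetherian (Sq k C) := LocallyOfFiniteType.isLocallyNoetherian ((Sq k C) ↘ Spec (CommRingCat.of k))
  haveI : LocallyOfFinitePresentation g :=
    AlgStLib.locallyOfFinitePresentation_of_isLocallyNoetherian g inferInstance
  haveI : Flat g := inferInstance
  haveI : Coh.IsQCoh L := (CurveDeg.isCoh_of_isInvertible hL).1
  haveI : (Scheme.Modules.pullback g).Additive :=
    haveI := (Scheme.Modules.pullbackPushforwardAdjunction g).isLeftAdjoint
    Functor.additive_of_preserves_binary_products _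
  have hE : FlatMod.IsFinLocFree D := H23.PullPush.isFinLocFree_of_isInvertible hD
  let F := CohB1.tensorMod ((Scheme.Modules.pullback (p₂ k C)).obj D) ((Scheme.Modules.pullback (p₁ k C)).obj L)
  let Φ : (Spec (CommRingCat.of k)).Modules ⥤ C.Modules :=
    Scheme.Modules.pullback g ⋙ (DCoh.tensorBi (X := C)).obj D
  have hR : ∀ n, Nonempty (Φ.obj ((Coh.Rpush g n).obj L) ≅ (Coh.Rpush (p₂ k C) n).obj F) := fun n => by
    obtain ⟨a⟩ := S0033.result g g _ _ (IsPullback.of_hasPullback g g) L n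
    obtain ⟨b⟩ := S0927.result (p₂ k C) ((Scheme.Modules.pullback (p₁ k C)).obj L) D hE n
    exact ⟨((DCoh.tensorBi (X := C)).obj D).mapIso a ≪≫ b⟩
  have hz0 : ∀ n, n ≠ 0 → IsZero ((Coh.Rpush g n).obj L) := fun n hn => by
    obtain ⟨h, ⟨ε⟩, hh⟩ := exists_Rpush_free k C hL n
    obtain rfl := hh (hz hL ha1 n (by omega))
    refine IsZero.of_iso ((IsZero.iff_id_eq_zero _).2 ?_) ε
    rw [← H23.Frame.total, Finset.univ_eq_empty, Finset.sum_empty]
  obtain ⟨h, ⟨ε⟩, -⟩ := exists_Rpush_free k C hL 0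
  have hO : Nonempty (Φ.obj (Coh.structureModule (Spec (CommRingCat.of k))) ≅ D) := by
    refine (PicGrp.cl_eq_cl_iff _ _).1 ?_
    show PicF.cl (CohB1.tensorMod D _) = _
    rw [PicMul.cl_tensor, show PicF.cl ((Scheme.Modules.pullback g).obj
      (Coh.structureModule (Spec (CommRingCat.of k)))) = 1 from
      (PicGrp.cl_eq_cl_iff _ _).2 (PicClLib.nonempty_pullback_structureModule g), _root_.mul_one]
  have h1 := EulerOneDeg.finrank_eq k (p₂ k C) (show p₂ k C ≫ g = p₁ k C ≫ g from pullback.condition.symm) 0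
    (fun n hn => (Φ.map_isZero (hz0 n hn)).of_iso (hR n).some.symm) n (M := F)
  rw [Nat.zero_add] at h1
  rw [_root_.mul_comm]
  show Module.finrank k (Coh.HH (Sq k C) F n) = 0
  rw [h1, (CurveCohLib.hhEquiv (k := k) ((hR 0).some.symm ≪≫ Φ.mapIso ε) n).finrank_eq]
  haveI : Subsingleton (Coh.HH C (Φ.obj (FlatMod.freeMod (Spec (CommRingCat.of k)) h)) n) := by
    haveI : (AVIndex.HHfun C n).Additive := inferInstance
    haveI : Φ.Additive := inferInstance
    have hs : Subsingleton (Coh.HH C (Φ.obj (Coh.structureModule (Spec (CommRingCat.of k)))) n) :=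
      QCoh.subsingleton_HH_of_iso hO.some.symm _ (hz hD hb1 n hn)
    have hzero : IsZero ((Φ ⋙ AVIndex.HHfun C n).obj (Coh.structureModule (Spec (CommRingCat.of k)))) :=
      @AddCommGrpCat.isZero_of_subsingleton ((Φ ⋙ AVIndex.HHfun C n).obj _) hs
    have hid : IsZero ((Φ ⋙ AVIndex.HHfun C n).obj (FlatMod.freeMod (Spec (CommRingCat.of k)) h)) := by
      rw [IsZero.iff_id_eq_zero, ← CategoryTheory.Functor.map_id, ← H23.Frame.total, Functor.map_sum]
      refine Finset.sum_eq_zero fun j _ => ?_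
      rw [Functor.map_comp, hzero.eq_of_tgt ((Φ ⋙ AVIndex.HHfun C n).map (H23.Frame.proj _ h j)) 0, zero_comp]
    exact AddCommGrpCat.subsingleton_of_isZero hid
  exact Module.finrank_zero_of_subsingleton

end Groth.Agent.H28.Hyp
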