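import Groth.Agent.H28.Hyp.Coh
import Groth.Agent.Snapper.DimVanish

/-! The cohomology of the modules `F_m ⊗ N^r`. -/

set_option autoImplicit false
set_option linter.style.haveILetI false
set_option linter.unusedSectionVars false
set_option backward.isDefEq.respectTransparency false
set_option backward.isDefEq.respectTransparency.types false
set_option maxHeartbeats 1000000
set_option synthInstance.maxHeartbeats 400000

universe u

open CategoryTheory CategoryTheory.Limits AlgebraicGeometry TopologicalSpace Opposite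

noncomputable section

namespace Groth.Agent.H28.Hyp

open Groth.Agent Groth.Agent.H23
open scoped Groth.Agent.H23.PicMul

theorem hh_eq_zero_of_dim_lt (k : Type u) [Field k] {X : Scheme.{u}} [X.Over (Spec (CommRingCat.of k))]
    [IsProper (X ↘ Spec (CommRingCat.of k))] {d : ℕ} (hd : topologicalKrullDim X ≤ d) {c : PicF.Cl X}
    (hc : c ∈ inv X) {i : ℕ} (hi : d < i) : hh k i c = 0 := by
  obtain ⟨L, hL, rfl⟩ := hc
  haveI := CurveCohLib.isNoetherian_of_proper (k := k) (X := X)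
  haveI : X.IsSeparated := ⟨by
    rw [← terminal.comp_from (X ↘ Spec (CommRingCat.of k))]; infer_instance⟩
  haveI := Snapper.subsingleton_HH_of_dim_le hd (AmpleVan.isCoh_invertible hL).1 hi
  exact Module.finrank_zero_of_subsingleton

theorem subsingleton_of_hh (k : Type u) [Field k] {X : Scheme.{u}} [X.Over (Spec (CommRingCat.of k))]
    [IsProper (X ↘ Spec (CommRingCat.of k))] {L : X.Modules} (hL : PicF.IsInvertible L) {i : ℕ}
    (h : hh k i (PicF.cl L) = 0) : Subsingleton (Coh.HH X L i) := by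
  haveI := CurveCohLib.isNoetherian_of_proper (k := k) (X := X)
  haveI := CurveCohLib.finite_HH (k := k) (AmpleVan.isCoh_invertible hL) i
  exact Module.finrank_zero_iff.1 h

variable (k : Type u) [Field k] [IsAlgClosed k] (C : Scheme.{u}) [C.Over (Spec (CommRingCat.of k))]
  [IsProper (C ↘ Spec (CommRingCat.of k))] [Smooth (C ↘ Spec (CommRingCat.of k))] [ConnectedSpace ↥C]
  (hdim : topologicalKrullDim ↥C = 1)
include hdim

theorem χ_curve {c : PicF.Cl C} (hc : c ∈ inv C) :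
    SurfPairing.χ k c = (hh k 0 c : ℤ) - (hh k 1 c : ℤ) := by
  haveI := isIntegral k C
  haveI := CurveCohLib.isNoetherian_of_proper (k := k) (X := C)
  obtain ⟨L, hL, rfl⟩ := hc
  exact CurveRR.euler_eq_h0_sub_h1 k hdim.le (CurveDeg.isCoh_of_isInvertible hL).1

theorem χ_surf {c : PicF.Cl (Sq k C)} (hc : c ∈ inv (Sq k C)) :
    SurfPairing.χ k c = (hh k 0 c : ℤ) - (hh k 1 c : ℤ) + (hh k 2 c : ℤ) := by
  have h3 := fun i (hi : 3 ≤ i) => hh_eq_zero_of_dim_lt k (d := 2) (dim_sq k C hdim).le hc (i := i) (by omega)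
  obtain ⟨L, hL, rfl⟩ := hc
  rw [SurfPairing.χ_cl, Euler.euler_eq_sum k L 3 fun i hi => subsingleton_of_hh k hL (h3 i hi)]
  simp [Finset.sum_range_succ, hh_cl]
  ring

theorem hh_one_eq_zero {c : PicF.Cl C} (hc : c ∈ inv C) (h : (Curv2.genus k C : ℤ) ≤ SurfPairing.χ k c) :
    hh k 1 c = 0 := by
  haveI := isIntegral k C
  have h1 := euler_structure k C hdim
  rw [SurfPairing.χ_one] at h1
  obtain ⟨L, hL, rfl⟩ := hc
  rw [SurfPairing.χ_cl] at h
  haveI := CurveFF.subsingleton_h1 k hdim hL (by unfold Curv2.deg; push_cast; linarith)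
  exact Module.finrank_zero_of_subsingleton

theorem hh_zero_eq_zero {c : PicF.Cl C} (hc : c ∈ inv C)
    (h : SurfPairing.χ k c < SurfPairing.χ k (1 : PicF.Cl C)) : hh k 0 c = 0 := by
  haveI := isIntegral k C
  obtain ⟨L, hL, rfl⟩ := hc
  rw [SurfPairing.χ_cl, SurfPairing.χ_one] at h
  by_contra h0
  obtain ⟨s, hs⟩ := CurveRR.exists_hom_ne_zero k (P := L) h0
  have h1 := (CurveDeg.deg_le_and_isIso k hdim.le CurveDeg.isInvertible_structureModule hL s hs).1
  rw [CurveDeg.deg_structureModule] at h1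
  unfold Curv2.deg at h1
  push_cast at h1
  linarith

variable (κ : C ⟶ CohB1.ProjSpace 1 k) (hκ : κ ≫ CohB1.ProjSpace.toSpec 1 k = (C ↘ Spec (CommRingCat.of k)))
  [IsFinite κ] (hκ2 : ∀ y : ↥(CohB1.ProjSpace 1 k), κ.finrank y = 2)
include hκ hκ2

theorem hh_cL_pow (j : ℕ) (hj : 1 ≤ j) : j + 1 ≤ hh k 0 (cL k C κ ^ j) := by
  haveI := isIntegral k C
  letI := CurveFF.ffAlg k C
  have hK := CurveFF.isFunctionField k C hdim
  have hd := CurveCover.hasDiv_pullback k hdim κ hκ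
  set D := (FFLib.poles (CurveCover.coordX k κ hκ hdim 0 1) : FunFld.Divisor k C.functionField) with hD
  have h2 : 2 ≤ FunFld.ell D := by
    have h := CurveCover.two_le_h0 k C hdim (PicClLib.isInvertible_pullback κ (CurveCover.isInvertible_twist k 1))
      (by
        have h := χ_cL k C hdim κ hκ hκ2
        rw [SurfPairing.χ_cl, SurfPairing.χ_one] at h
        unfold Curv2.deg
        push_cast
        omega)
      (CurveCover.exists_mem_locus_pullback k C κ)
    rwa [hd.h0_eq] at h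
  obtain ⟨R⟩ : Nonempty (FunFld.Place k C.functionField) :=
    haveI := CurveCover.infinite_places k hdim
    inferInstance
  have hP : R.deg = 1 := FFLib.deg_eq_one hK.1 R
  suffices key : ∃ M : C.Modules, PicF.cl M = cL k C κ ^ j ∧ CurveCover.HasDiv k hdim M (j • D) ∧
      j + 1 ≤ FunFld.ell (j • D) by
    obtain ⟨M, hM, hMd, hMl⟩ := key
    rw [← hM, hh_cl, hMd.h0_eq]
    exact hMl
  induction j, hj using Nat.le_induction with
  | base => exact ⟨_, (pow_one _).symm, by rw [one_smul]; exact hd, by rw [one_smul]; exact h2⟩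
  | succ j hj ih =>
    obtain ⟨M, hM, hMd, hMl⟩ := ih
    refine ⟨_, ?_, succ_nsmul D j ▸ hMd.tensor hd, ?_⟩
    · rw [PicMul.cl_tensor, hM, pow_succ]
    · have := FFLib.ell_add_ell_le hK.1 hP (j • D) D (by omega) (by omega)
      rw [← succ_nsmul] at this
      omega

theorem χ_cL_pow (j : ℕ) : SurfPairing.χ k (cL k C κ ^ j) = 2 * (j : ℤ) + 1 - (Curv2.genus k C : ℤ) := by
  rw [χ_pow k C hdim (cL_mem k C κ), χ_cL k C hdim κ hκ hκ2, euler_structure k C hdim]
  ring

/-- The cohomology of the special multiples of the pencil. -/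
theorem hh_cL_special (j : ℕ) (hj : 1 ≤ j) (hg : j + 1 ≤ Curv2.genus k C) :
    (hh k 1 (cL k C κ ^ j) : ℤ) = (Curv2.genus k C : ℤ) - j := by
  haveI := isIntegral k C
  have h1 := hh_cL_pow k C hdim κ hκ hκ2 j hj
  have h2 := χ_cL_pow k C hdim κ hκ hκ2 j
  rw [χ_curve k C hdim (Submonoid.pow_mem _ (cL_mem k C κ) j)] at h2
  have h3 : hh k 0 (cL k C κ ^ j) ≤ j + 1 := by
    obtain ⟨L, hL, hLc⟩ := Submonoid.pow_mem _ (cL_mem k C κ) j
    have hd : Curv2.deg k C L 1 = 2 * (j : ℤ) := by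
      have h := χ_cL_pow k C hdim κ hκ hκ2 j
      have h' := euler_structure k C hdim
      rw [SurfPairing.χ_one] at h'
      rw [← hLc, SurfPairing.χ_cl] at h
      unfold Curv2.deg
      push_cast
      linarith
    rw [← hLc, hh_cl] at h1 ⊢
    by_contra hlt
    rcases CurveCohLib.Clifford.dichotomy k hdim hL (m := j + 1) (by omega) with h | h <;>
      rw [hd] at h <;> push_cast at h <;> omega
  omega

variable (σ : C ⟶ C) (hσ : σ ≫ κ = κ)
  (hσp : σ ≫ (C ↘ Spec (CommRingCat.of k)) = (C ↘ Spec (CommRingCat.of k))) (hσ2 : σ ≫ σ = 𝟙 C)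
  (n : PicF.Cl (Sq k C)) (hn : n ∈ inv (Sq k C)) (hni : n * cI (graph k C σ hσp) = 1) (m : ℕ)

omit hdim hκ hκ2 in
/-- The class of `F_m ⊗ N^r`. -/
abbrev cF (r : ℕ) : PicF.Cl (Sq k C) := q₁ k C (cL k C κ ^ m) * q₂ k C (cL k C κ ^ m) * n ^ r

include hn in
omit hdim hκ hκ2 in
theorem cF_mem (r : ℕ) : cF k C κ n m r ∈ inv (Sq k C) :=
  mul_mem (mul_mem (pullCl_mem _ (Submonoid.pow_mem _ (cL_mem k C κ) m))
    (pullCl_mem _ (Submonoid.pow_mem _ (cL_mem k C κ) m))) (Submonoid.pow_mem _ hn r)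

include hn hni hσ2 in
theorem cF_seq (r : ℕ) :
    ∃ d : ℕ → ℕ, d 0 = 0 ∧ ∀ i, d i ≤ hh k i (cF k C κ n m r) ∧
      d (i + 1) ≤ hh k i (PicF.pullCl (graph k C σ hσp) (cF k C κ n m (r + 1))) ∧
      hh k i (cF k C κ n m r) + hh k i (PicF.pullCl (graph k C σ hσp) (cF k C κ n m (r + 1))) =
        hh k i (cF k C κ n m (r + 1)) + d i + d (i + 1) := by
  haveI := isClosedImmersion_graph k C σ hσp
  have h := seq k C hdim (graph k C σ hσp) (pullback.lift_fst _ _ _) (cF_mem k C κ n hn m (r + 1))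
  rwa [show cF k C κ n m (r + 1) * cI (graph k C σ hσp) = cF k C κ n m r by
    simp only [cF, pow_succ, _root_.mul_assoc, hni, _root_.mul_one]] at h

include hn hni hσ2 in
theorem graph_mem (r : ℕ) : PicF.pullCl (graph k C σ hσp) (cF k C κ n m r) ∈ inv C :=
  pullCl_mem _ (cF_mem k C κ n hn m r)

include hn hni hσ hσ2 in
theorem χ_graph_cF (r : ℕ) : SurfPairing.χ k (PicF.pullCl (graph k C σ hσp) (cF k C κ n m r)) =
    2 * (2 * (m : ℤ) - ((Curv2.genus k C : ℤ) - 1) * r) + 1 - (Curv2.genus k C : ℤ) := by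
  have hL := cL_mem k C κ
  have hLm := Submonoid.pow_mem _ hL m
  have hni' : PicF.pullCl (graph k C σ hσp) n ∈ inv C := pullCl_mem _ hn
  rw [cF, PicMul.pullCl_mul, PicMul.pullCl_mul, pullCl_graph_q₁ k C σ hσp, pullCl_graph_q₂ k C σ hσp,
    pullCl_pow, pullCl_cL k C κ σ hσ, pullCl_sq_pow, χ_mul k C hdim (mul_mem hLm hLm)
      (Submonoid.pow_mem _ hni' r), χ_mul k C hdim hLm hLm, χ_cL_pow k C hdim κ hκ hκ2, χ_pow k C hdim hni',
    χ_graph_self k C hdim σ hσp hσ2 hn hni, euler_structure k C hdim]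
  ring

variable (hg : 2 ≤ Curv2.genus k C) (hm : Curv2.genus k C ≤ m)
include hm

theorem hh_F_zero (i : ℕ) (hi : 1 ≤ i) : hh k i (cF k C κ n m 0) = 0 := by
  have hL := Submonoid.pow_mem _ (cL_mem k C κ) m
  have h1 : hh k 1 (cL k C κ ^ m) = 0 :=
    hh_one_eq_zero k C hdim hL (by rw [χ_cL_pow k C hdim κ hκ hκ2]; omega)
  rw [cF, pow_zero, _root_.mul_one]
  exact hh_box k C hdim hL hL h1 h1 i hi

include hn hni hσ2

theorem hh_two (r : ℕ) : hh k 2 (cF k C κ n m r) = 0 := by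
  induction r with
  | zero => exact hh_F_zero k C hdim κ hκ hκ2 n m hm 2 one_le_two
  | succ r ih =>
    obtain ⟨d, hd0, hd⟩ := cF_seq k C hdim κ hκ hκ2 σ hσp hσ2 n hn hni m r
    have h2 := hh_eq_zero_of_dim_lt k (d := 1) hdim.le (graph_mem k C hdim κ hκ hκ2 σ hσp hσ2 n hn hni m (r + 1))
      (i := 2) (by omega)
    have := hd 2
    omega

include hσ hg

theorem hh_one (r : ℕ) (h : ((Curv2.genus k C : ℤ) - 1) * (r + 1) < 2 * m) : hh k 1 (cF k C κ n m r) = 0 := by
  induction r with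
  | zero => exact hh_F_zero k C hdim κ hκ hκ2 n m hm 1 le_rfl
  | succ r ih =>
    push_cast at h
    have ihr := ih (by nlinarith)
    obtain ⟨d, hd0, hd⟩ := cF_seq k C hdim κ hκ hκ2 σ hσp hσ2 n hn hni m r
    have hq := hh_one_eq_zero k C hdim (graph_mem k C hdim κ hκ hκ2 σ hσp hσ2 n hn hni m (r + 1))
      (by rw [χ_graph_cF k C hdim κ hκ hκ2 σ hσ hσp hσ2 n hn hni m]; push_cast; nlinarith)
    have := hd 1
    have := hh_two k C hdim κ hκ hκ2 σ hσp hσ2 n hn hni m hm r
    have := hd 2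
    omega

/-- The cohomology at a step where the restriction to the graph is effective. -/
theorem step (r : ℕ) (h : ((Curv2.genus k C : ℤ) - 1) * (r + 1) < 2 * m) :
    hh k 0 (cF k C κ n m (r + 1)) =
        hh k 0 (cF k C κ n m r) + hh k 0 (PicF.pullCl (graph k C σ hσp) (cF k C κ n m (r + 1))) ∧
      hh k 1 (cF k C κ n m (r + 1)) = hh k 1 (PicF.pullCl (graph k C σ hσp) (cF k C κ n m (r + 1))) := by
  obtain ⟨d, hd0, hd⟩ := cF_seq k C hdim κ hκ hκ2 σ hσp hσ2 n hn hni m r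
  have := hh_one k C hdim κ hκ hκ2 σ hσ hσp hσ2 n hn hni m hg hm r h
  have := hh_two k C hdim κ hκ hκ2 σ hσp hσ2 n hn hni m hm r
  have := hd 0
  have := hd 1
  have := hd 2
  simp only [Nat.zero_add, Nat.reduceAdd] at *
  omega

/-- The cohomology at a step where the restriction to the graph has negative degree. -/
theorem step_neg (r : ℕ) (h : 2 * (m : ℤ) < ((Curv2.genus k C : ℤ) - 1) * (r + 1)) :
    hh k 0 (cF k C κ n m (r + 1)) = hh k 0 (cF k C κ n m r) := by
  obtain ⟨d, hd0, hd⟩ := cF_seq k C hdim κ hκ hκ2 σ hσp hσ2 n hn hni m r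
  have := hh_zero_eq_zero k C hdim (graph_mem k C hdim κ hκ hκ2 σ hσp hσ2 n hn hni m (r + 1))
    (by rw [χ_graph_cF k C hdim κ hκ hκ2 σ hσ hσp hσ2 n hn hni m, euler_structure k C hdim]; push_cast; nlinarith)
  have := hd 0
  simp only [Nat.zero_add] at *
  omega

/-- The first cohomology in the special range. -/
theorem hh_one_special (r s : ℕ) (hs : (s : ℤ) = 2 * (m : ℤ) - ((Curv2.genus k C : ℤ) - 1) * r) (hs1 : 1 ≤ s)
    (hs2 : s + 1 ≤ Curv2.genus k C) :
    (hh k 1 (cF k C κ n m r) : ℤ) = (Curv2.genus k C : ℤ) - s := by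
  obtain ⟨r, rfl⟩ : ∃ r', r = r' + 1 := ⟨r - 1, by
    rcases Nat.eq_zero_or_pos r with rfl | h
    · push_cast at hs; omega
    · omega⟩
  have h := (step k C hdim κ hκ hκ2 σ hσ hσp hσ2 n hn hni m hg hm r (by push_cast at hs; linarith)).2
  rw [h, cF, graph_F k C hdim κ hκ hκ2 σ hσ hσp hσ2 hni m (r + 1) s (by omega) hs,
    hh_cL_special k C hdim κ hκ hκ2 s hs1 hs2]

end Groth.Agent.H28.Hyp
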