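import Groth.Agent.H28.Hyp.Inv
import Groth.Agent.Lib.AVSeesaw

/-! The hyperelliptic relations on a curve and its square. -/

set_option autoImplicit false
set_option linter.style.haveILetI false
set_option linter.unusedSectionVars false
set_option backward.isDefEq.respectTransparency false
set_option backward.isDefEq.respectTransparency.types false
set_option maxHeartbeats 1000000
set_option synthInstance.maxHeartbeats 400000

universe u

open CategoryTheory CategoryTheory.Limits AlgebraicGeometry TopologicalSpace Opposite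

noncomputable section

namespace Groth.Agent.H28.Hyp

open Groth.Agent Groth.Agent.H23 FunFld Groth.Agent.FFLib
open scoped Groth.Agent.H23.PicMul

attribute [local instance] CurveFF.ffAlg CurveCover.isIntegral_line

theorem cl_eq_one_of_subsingleton {X : Scheme.{u}} [Subsingleton ↥X] [Nonempty ↥X] {c : PicF.Cl X}
    (hc : c ∈ inv X) : c = 1 := by
  obtain ⟨L, hL, rfl⟩ := hc
  exact KLBasic.trivial_of_subsingleton hL

variable (k : Type u) [Field k] [IsAlgClosed k] (C : Scheme.{u}) [C.Over (Spec (CommRingCat.of k))]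
  [IsProper (C ↘ Spec (CommRingCat.of k))] [Smooth (C ↘ Spec (CommRingCat.of k))] [ConnectedSpace ↥C]

/-- A rational point, as a closed point. -/
def ptOf (a : Spec (CommRingCat.of k) ⟶ C) (ha : a ≫ (C ↘ Spec (CommRingCat.of k)) = 𝟙 _) : CurveFF.Pt C :=
  ⟨a (IsLocalRing.closedPoint k), by
    haveI : IsClosedImmersion (a ≫ (C ↘ Spec (CommRingCat.of k))) := by rw [ha]; infer_instance
    haveI : IsClosedImmersion a := IsClosedImmersion.of_comp a (C ↘ Spec (CommRingCat.of k))
    haveI : Subsingleton ↥(Spec (CommRingCat.of k)) := inferInstanceAs (Subsingleton (PrimeSpectrum k))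
    have h := a.isClosedEmbedding.isClosed_range
    rwa [show Set.range a = {a (IsLocalRing.closedPoint k)} from Set.eq_singleton_iff_unique_mem.2
      ⟨⟨_, rfl⟩, by rintro _ ⟨y, rfl⟩; exact congrArg a (Subsingleton.elim _ _)⟩] at h⟩

theorem ker_point (a : Spec (CommRingCat.of k) ⟶ C) (ha : a ≫ (C ↘ Spec (CommRingCat.of k)) = 𝟙 _) :
    a.ker = CurvePoint.ptIdeal (ptOf k C a ha).1 (ptOf k C a ha).2 := by
  haveI : IsClosedImmersion (a ≫ (C ↘ Spec (CommRingCat.of k))) := by rw [ha]; infer_instance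
  haveI : IsClosedImmersion a := IsClosedImmersion.of_comp a (C ↘ Spec (CommRingCat.of k))
  haveI : Subsingleton ↥(Spec (CommRingCat.of k)) := inferInstanceAs (Subsingleton (PrimeSpectrum k))
  haveI : IsReduced a.ker.subscheme := isReduced_of_isOpenImmersion (CategoryTheory.inv a.toImage)
  rw [RedComap5.eq_vanishingIdeal a.ker]
  congr 1
  refine Closeds.ext ?_
  rw [Scheme.Hom.support_ker]
  show closure (Set.range a) = _
  rw [a.isClosedEmbedding.isClosed_range.closure_eq]
  exact Set.eq_singleton_iff_unique_mem.2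
      ⟨⟨_, rfl⟩, by rintro _ ⟨y, rfl⟩; exact congrArg a (Subsingleton.elim _ _)⟩

variable (hdim : topologicalKrullDim ↥C = 1)
include hdim

theorem isInvertible_point (a : Spec (CommRingCat.of k) ⟶ C) (ha : a ≫ (C ↘ Spec (CommRingCat.of k)) = 𝟙 _) :
    PicF.IsInvertible (ClSub.idealMod a.ker) := by
  haveI := isIntegral k C
  rw [ker_point k C a ha]
  obtain ⟨z, -, h⟩ := CurveCover.exists_div_ptMod k hdim (ptOf k C a ha)
  exact h.inv

variable (κ : C ⟶ CohB1.ProjSpace 1 k) (hκ : κ ≫ CohB1.ProjSpace.toSpec 1 k = (C ↘ Spec (CommRingCat.of k)))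
  [IsFinite κ] (hκ2 : ∀ y : ↥(CohB1.ProjSpace 1 k), κ.finrank y = 2)

/-- The class of the pullback of the twisting sheaf. -/
abbrev cL : PicF.Cl C := PicF.cl ((Scheme.Modules.pullback κ).obj (Twist.twistProjSpace 1 k 1))

omit hdim in
theorem cL_mem : cL k C κ ∈ inv C :=
  cl_mem (PicClLib.isInvertible_pullback κ (CurveCover.isInvertible_twist k 1))

include hκ hκ2 in
theorem χ_cL : SurfPairing.χ k (cL k C κ) = SurfPairing.χ k (1 : PicF.Cl C) + 2 := by
  haveI := isIntegral k C
  have h := CurveCover.residueDegree_pencil k C hdim (finrank_h0 k C) κ hκ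
  rw [CurveCover.residueDegree_eq_two k κ hκ hdim hκ2] at h
  rw [SurfPairing.χ_cl, SurfPairing.χ_one]
  unfold Curv2.deg at h
  push_cast at h
  omega

include hκ hκ2 in
/-- The canonical class of a hyperelliptic curve. -/
theorem omega_eq_pow (hg : 1 ≤ Curv2.genus k C) :
    cL k C κ ^ (Curv2.genus k C - 1) = PicF.cl (Omega.sheaf (C ↘ Spec (CommRingCat.of k))) := by
  haveI := isIntegral k C
  have hK := CurveFF.isFunctionField k C hdim
  have hd := CurveCover.hasDiv_pullback k hdim κ hκ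
  set D := (poles (CurveCover.coordX k κ hκ hdim 0 1) : Divisor k C.functionField) with hD
  have h2 : 2 ≤ ell D := by
    have h := CurveCover.two_le_h0 k C hdim
      (PicClLib.isInvertible_pullback κ (CurveCover.isInvertible_twist k 1))
      (by
        have h := χ_cL k C hdim κ hκ hκ2
        rw [SurfPairing.χ_cl, SurfPairing.χ_one] at h
        unfold Curv2.deg
        push_cast
        omega)
      (CurveCover.exists_mem_locus_pullback k C κ)
    rwa [hd.h0_eq] at h
  obtain ⟨R⟩ : Nonempty (Place k C.functionField) :=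
    haveI := CurveCover.infinite_places k hdim
    inferInstance
  have hP : R.deg = 1 := FFLib.deg_eq_one hK.1 R
  have key : ∀ j : ℕ, 1 ≤ j → ∃ M : C.Modules, PicF.cl M = cL k C κ ^ j ∧ CurveCover.HasDiv k hdim M (j • D) ∧
      j + 1 ≤ ell (j • D) := by
    intro j hj
    induction j, hj using Nat.le_induction with
    | base => exact ⟨_, (pow_one _).symm, by rw [one_smul]; exact hd, by rw [one_smul]; exact h2⟩
    | succ j hj ih =>
      obtain ⟨M, hM, hMd, hMl⟩ := ih
      refine ⟨_, ?_, succ_nsmul D j ▸ hMd.tensor hd, ?_⟩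
      · rw [PicMul.cl_tensor, hM, pow_succ]
      · have := ell_add_ell_le hK.1 hP (j • D) D (by omega) (by omega)
        rw [← succ_nsmul] at this
        omega
  obtain ⟨hwi, hwχ⟩ := omega_facts k C hdim
  by_cases hg1 : Curv2.genus k C = 1
  · rw [hg1]
    obtain ⟨ω, μ, hω⟩ := CurveDuality.exists_isDualizing k (X := C) hdim
    refine (PicGrp.cl_eq_cl_iff _ _).2 (CurveBC.nonempty_iso_omega k C hdim (finrank_h0 k C)
      InvX.isInvertible_structureModule ?_ ?_)
    · rw [hg1, CurveDeg.deg_structureModule]; norm_num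
    · rw [hg1, finrank_h0 k C]
  obtain ⟨M, hM, hMd, hMl⟩ := key (Curv2.genus k C - 1) (by omega)
  rw [← hM]
  refine (PicGrp.cl_eq_cl_iff _ _).2 (CurveBC.nonempty_iso_omega k C hdim (finrank_h0 k C) hMd.inv ?_ ?_)
  · have h := χ_pow k C hdim (cL_mem k C κ) (Curv2.genus k C - 1)
    rw [← hM, χ_cL k C hdim κ hκ hκ2, SurfPairing.χ_cl, SurfPairing.χ_one] at h
    unfold Curv2.deg
    push_cast at h ⊢
    rw [Nat.cast_sub (by omega)] at h
    push_cast at h
    omega
  · rw [hMd.h0_eq]; omega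

variable (σ : C ⟶ C) (hσ : σ ≫ κ = κ) (hσ1 : σ ≠ 𝟙 C)

include hσ hσ1 hκ hκ2 in
/-- The deck transformation is an involution. -/
theorem σ_σ (h2 : (2 : k) ≠ 0) (hg : 2 ≤ Curv2.genus k C) : σ ≫ σ = 𝟙 C := by
  haveI := isIntegral k C
  obtain ⟨τ, -, hτ2, hτκ, hcard⟩ := CurveCover.exists_deck_fixed k hdim h2 (by omega) κ hκ hκ2
  have hτ1 : τ ≠ 𝟙 C := by
    rintro rfl
    haveI : Infinite {x : C // IsClosed ({x} : Set C) ∧ (𝟙 C : C ⟶ C) x = x} := by
      haveI := CurveCover.infinite_places k (X := C) hdim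
      refine Infinite.of_injective (fun P => ⟨((CurveFF.pl k C hdim).symm P).1,
        ((CurveFF.pl k C hdim).symm P).2, rfl⟩) fun P Q h => ?_
      exact (CurveFF.pl k C hdim).symm.injective (Subtype.ext (congrArg Subtype.val h :))
    rw [Nat.card_eq_zero_of_infinite] at hcard
    omega
  rw [CurveCover.deck_unique k κ hκ hdim hg hκ2 κ hκ hκ2 σ τ hσ hσ1 hτκ hτ1, hτ2]

variable (hσp : σ ≫ (C ↘ Spec (CommRingCat.of k)) = (C ↘ Spec (CommRingCat.of k))) (hσ2 : σ ≫ σ = 𝟙 C)

include hκ hκ2 hσ hσ1 hσp hσ2 in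
/-- A point and its conjugate are cut out by a member of the pencil. -/
theorem point_add_conj (a : Spec (CommRingCat.of k) ⟶ C) (ha : a ≫ (C ↘ Spec (CommRingCat.of k)) = 𝟙 _) :
    cI a * cI (a ≫ σ) * cL k C κ = 1 := by
  haveI := isIntegral k C
  have ha' : (a ≫ σ) ≫ (C ↘ Spec (CommRingCat.of k)) = 𝟙 _ := by rw [Category.assoc, hσp, ha]
  have hF := (CurveFF.isFunctionField k C hdim).1
  obtain ⟨e, he1, he⟩ := CurveCover.deck_data k κ hκ hdim σ hσ
  set s := CurveCover.ffAut k σ hσp hσ2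
  set x := CurveCover.coordX k κ hκ hdim 0 1
  have hdeg := CurveCover.residueDegree_eq_two k κ hκ hdim hκ2
  have hsx : s x = x := he x (IntermediateField.mem_adjoin_simple_self k x)
  have hne : s ≠ AlgEquiv.refl := fun h => he1 hσ1 (RingHom.ext fun c => congr($h c))
  have hinv : ∀ c, s (s c) = c := fun c =>
    (CurveCover.ffAut k σ hσp hσ2).toRingEquiv.left_inv c
  obtain ⟨z, hz, hp⟩ := CurveCover.exists_poles_eq_pair s hinv hne hF
    (CurveCover.transcendental_coordX k κ hκ hdim hdeg) (CurveCover.finrank_adjoin k κ hκ hdim hdeg) hsx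
    (CurveFF.pl k C hdim (ptOf k C a ha))
  rw [CurveCover.placeComap_pl k hdim σ hσp hσ2] at hp
  obtain ⟨z₁, hz₁, hd₁⟩ := CurveCover.exists_div_ptMod k hdim (ptOf k C a ha)
  obtain ⟨z₂, hz₂, hd₂⟩ := CurveCover.exists_div_ptMod k hdim (ptOf k C (a ≫ σ) ha')
  have hd := (hd₁.tensor hd₂).tensor (CurveCover.hasDiv_pullback k hdim κ hκ)
  have hsum : (-Finsupp.single (CurveFF.pl k C hdim (ptOf k C a ha)) 1 + FunFld.div k z₁ +
      (-Finsupp.single (CurveFF.pl k C hdim (ptOf k C (a ≫ σ) ha')) 1 + FunFld.div k z₂) + poles x :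
        Divisor k C.functionField) = 0 + FunFld.div k (z₁ * z₂ * z) := by
    rw [CurveCover.div_mul' hF (mul_ne_zero hz₁ hz₂) hz, CurveCover.div_mul' hF hz₁ hz₂,
      show (poles x : Divisor k C.functionField) = _ from hp,
      show ptOf k C (a ≫ σ) ha' = ⟨σ (ptOf k C a ha).1, CurveCover.isClosed_image σ hσ2 (ptOf k C a ha).2⟩ from rfl]
    abel
  obtain ⟨D, hD⟩ := CurveCover.exists_hasDiv (k := k) (hdim := hdim) (InvX.isInvertible_structureModule (X := C))
  obtain ⟨w, hw, hw0⟩ := hD.structure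
  have hu := mul_ne_zero (mul_ne_zero hz₁ hz₂) hz
  obtain ⟨i⟩ := hD.nonempty_iso (mul_ne_zero hw hu) (show CurveCover.HasDiv k hdim _
      (D + FunFld.div k (w * (z₁ * z₂ * z))) by
    rw [CurveCover.div_mul' hF hw hu, ← add_assoc, hw0]
    exact hsum ▸ hd)
  show PicF.cl _ * PicF.cl _ * _ = _
  rw [ker_point k C a ha, ker_point k C (a ≫ σ) ha', ← PicMul.cl_tensor, ← PicMul.cl_tensor]
  exact ((PicGrp.cl_eq_cl_iff _ _).2 ⟨i⟩).symm

end Groth.Agent.H28.Hyp
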