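import Groth.Agent.H28.Hyp.Kunneth
import Groth.Agent.CurveCover.Involution
import Groth.Agent.CurveCover.DeckUniq
import Groth.Agent.CurveCover.FibreConj
import Groth.Agent.CurveCover.PicDiv
import Groth.Agent.CurveBC.Main
import Groth.Agent.Lib.CurveOnSurf
import Groth.Agent.Lib.SurfHodge
import Groth.Agent.H26.InterDiv
import Groth.Agent.HilbDLib.OpenSub
import Groth.Agent.RedComap5.Basic

/-! The graph of the involution of a hyperelliptic curve in the square of the curve. -/

set_option autoImplicit false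
set_option linter.style.haveILetI false
set_option linter.unusedSectionVars false
set_option backward.isDefEq.respectTransparency false
set_option backward.isDefEq.respectTransparency.types false
set_option maxHeartbeats 1000000
set_option synthInstance.maxHeartbeats 400000

universe u

open CategoryTheory CategoryTheory.Limits AlgebraicGeometry TopologicalSpace Opposite

noncomputable section

namespace Groth.Agent.H28.Hyp

open Groth.Agent Groth.Agent.H23
open scoped Groth.Agent.H23.PicMul

/-- The class of the ideal of a closed subscheme given by a closed immersion. -/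
abbrev cI {Z X : Scheme.{u}} (i : Z ⟶ X) : PicF.Cl X := PicF.cl (ClSub.idealMod i.ker)

theorem comap_ker_of_isPullback {P X Y Z : Scheme.{u}} {fst : P ⟶ X} {snd : P ⟶ Y} {g : X ⟶ Z} {i : Y ⟶ Z}
    [IsClosedImmersion i] (h : IsPullback fst snd g i) : i.ker.comap g = fst.ker := by
  rw [← Scheme.IdealSheafData.ker_fst_of_isClosedImmersion]
  conv_rhs => rw [← h.isoPullback_hom_fst]
  rw [Scheme.Hom.ker_comp_of_isIso]

theorem pullCl_cI {P X Y Z : Scheme.{u}} {fst : P ⟶ X} {snd : P ⟶ Y} {g : X ⟶ Z} {i : Y ⟶ Z}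
    [IsClosedImmersion i] (h : IsPullback fst snd g i) (hi : PicF.IsInvertible (ClSub.idealMod i.ker))
    (hf : PicF.IsInvertible (ClSub.idealMod fst.ker)) : PicF.pullCl g (cI i) = cI fst := by
  have e := comap_ker_of_isPullback h
  obtain ⟨a⟩ := H26.InterDiv.nonempty_pullback_idealMod g i.ker ((S8914.result _).1 hi)
    (by rw [e]; exact (S8914.result _).1 hf)
  exact (PicGrp.cl_eq_cl_iff _ _).2 ⟨a ≪≫ eqToIso (by rw [e])⟩

variable (k : Type u) [Field k] [IsAlgClosed k] (C : Scheme.{u}) [C.Over (Spec (CommRingCat.of k))]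
  [IsProper (C ↘ Spec (CommRingCat.of k))] [Smooth (C ↘ Spec (CommRingCat.of k))] [ConnectedSpace ↥C]

/-- The graph of an endomorphism. -/
abbrev graph (σ : C ⟶ C) (hσp : σ ≫ (C ↘ Spec (CommRingCat.of k)) = (C ↘ Spec (CommRingCat.of k))) : C ⟶ Sq k C :=
  pullback.lift (𝟙 C) σ ((Category.id_comp (C ↘ Spec (CommRingCat.of k))).trans hσp.symm)

/-- The diagonal. -/
abbrev diag : C ⟶ Sq k C := pullback.diagonal (C ↘ Spec (CommRingCat.of k))

theorem isClosedImmersion_graph (σ : C ⟶ C) (hσp : σ ≫ (C ↘ Spec (CommRingCat.of k)) = (C ↘ Spec (CommRingCat.of k))) :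
    IsClosedImmersion (graph k C σ hσp) := by
  haveI : IsClosedImmersion (graph k C σ hσp ≫ p₁ k C) := by rw [pullback.lift_fst]; infer_instance
  exact IsClosedImmersion.of_comp _ (p₁ k C)

/-- The translation of the second factor. -/
abbrev twist (σ : C ⟶ C) (hσp : σ ≫ (C ↘ Spec (CommRingCat.of k)) = (C ↘ Spec (CommRingCat.of k))) :
    Sq k C ⟶ Sq k C :=
  pullback.map _ _ _ _ (𝟙 C) σ (𝟙 _) (by simp) (by simp [hσp])

variable (hdim : topologicalKrullDim ↥C = 1)
include hdim

/-- Curves in the square are effective Cartier divisors. -/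
theorem isInvertible_ideal_curve (i : C ⟶ Sq k C) [IsClosedImmersion i] :
    PicF.IsInvertible (ClSub.idealMod i.ker) := by
  haveI := isIntegral k C
  haveI := isIntegral_sq k C
  exact CurveOnSurf.isInvertible_ideal ((Sq k C) ↘ Spec (CommRingCat.of k)) (dim_sq k C hdim)
    (SurfHodge.regular k) i hdim

omit hdim in
theorem euler_over_congr {Z : Scheme.{u}} (a b : Z ⟶ Spec (CommRingCat.of k)) (h : a = b) (M : Z.Modules) :
    @Curv2.euler k _ Z ⟨a⟩ M = @Curv2.euler k _ Z ⟨b⟩ M := by
  subst h; rfl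

/-- The pairing with a curve that is a section of the first projection. -/
theorem pair_cI (i : C ⟶ Sq k C) [IsClosedImmersion i] (hi : i ≫ p₁ k C = 𝟙 C) {c : PicF.Cl (Sq k C)}
    (hc : c ∈ inv (Sq k C)) :
    SurfPairing.pair k (cI i) c =
      SurfPairing.χ k (1 : PicF.Cl C) - SurfPairing.χ k (PicF.pullCl i c) := by
  obtain ⟨M, hM, rfl⟩ := hc
  have h := CurveOnSurf.pair_ideal (k := k) i hM (isInvertible_ideal_curve k C hdim i)
  rw [h]
  have e : i ≫ ((Sq k C) ↘ Spec (CommRingCat.of k)) = C ↘ Spec (CommRingCat.of k) :=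
    show i ≫ (p₁ k C ≫ _) = _ by rw [← Category.assoc, hi, Category.id_comp]
  unfold Curv2.deg
  rw [euler_over_congr k _ _ e, euler_over_congr k _ _ e]
  show _ = Curv2.euler k C (Coh.structureModule C) - Curv2.euler k C ((Scheme.Modules.pullback i).obj M)
  push_cast
  change -(Curv2.euler k C ((Scheme.Modules.pullback i).obj M) - 1 * Curv2.euler k C (Coh.structureModule C)) = _
  ring

/-- The differentials, as the conormal class of the diagonal. -/
theorem diag_cI :
    PicF.pullCl (diag k C) (cI (diag k C)) = PicF.cl (Omega.sheaf (C ↘ Spec (CommRingCat.of k))) := rfl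

theorem omega_facts : PicF.cl (Omega.sheaf (C ↘ Spec (CommRingCat.of k))) ∈ inv C ∧
    SurfPairing.χ k (PicF.cl (Omega.sheaf (C ↘ Spec (CommRingCat.of k)))) = (Curv2.genus k C : ℤ) - 1 := by
  refine ⟨cl_mem (CurveBC.isInvertible_omega k C hdim (finrank_h0 k C)), ?_⟩
  have h1 := (CurveBC.canonical_invariants k C hdim (finrank_h0 k C)).2
  have h2 := euler_structure k C hdim
  rw [SurfPairing.χ_one] at h2
  rw [SurfPairing.χ_cl]
  unfold Curv2.deg at h1
  omega

variable (σ : C ⟶ C) (hσp : σ ≫ (C ↘ Spec (CommRingCat.of k)) = (C ↘ Spec (CommRingCat.of k)))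
  (hσ2 : σ ≫ σ = 𝟙 C)

include hσ2 in
/-- The conormal class of the graph of an involution. -/
theorem graph_cI : PicF.pullCl (graph k C σ hσp) (cI (graph k C σ hσp)) =
    PicF.cl (Omega.sheaf (C ↘ Spec (CommRingCat.of k))) := by
  haveI := isClosedImmersion_graph k C σ hσp
  have htt : twist k C σ hσp ≫ twist k C σ hσp = 𝟙 _ := by
    apply pullback.hom_ext
    · simp
    · simp [hσ2]
  haveI : IsIso (twist k C σ hσp) := ⟨twist k C σ hσp, htt, htt⟩
  have hd : diag k C ≫ twist k C σ hσp = graph k C σ hσp := by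
    apply pullback.hom_ext <;> simp
  have hp : IsPullback (diag k C) (𝟙 C) (twist k C σ hσp) (graph k C σ hσp) :=
    IsPullback.of_vert_isIso ⟨by rw [hd, Category.id_comp]⟩ |>.flip.flip
  have h := pullCl_cI hp (isInvertible_ideal_curve k C hdim _) (isInvertible_ideal_curve k C hdim _)
  rw [← diag_cI k C hdim, ← h, PicClLib.pullCl_comp, hd]

end Groth.Agent.H28.Hyp
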