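import Groth.Agent.H28.Hyp.Basic
import Groth.Agent.Lib.AVKunneth
import Groth.Agent.H23.EquidimFibres
import Groth.Agent.Snapper.DimVanish

/-! The Künneth formula for Euler characteristics on the square of a curve. -/

set_option autoImplicit false
set_option linter.style.haveILetI false
set_option linter.unusedSectionVars false
set_option backward.isDefEq.respectTransparency false
set_option backward.isDefEq.respectTransparency.types false
set_option maxHeartbeats 1000000
set_option synthInstance.maxHeartbeats 400000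

universe u

open CategoryTheory CategoryTheory.Limits AlgebraicGeometry TopologicalSpace Opposite

noncomputable section

namespace Groth.Agent.H28.Hyp

open Groth.Agent Groth.Agent.H23
open scoped Groth.Agent.H23.PicMul

variable (k : Type u) [Field k] [IsAlgClosed k] (C : Scheme.{u}) [C.Over (Spec (CommRingCat.of k))]
  [IsProper (C ↘ Spec (CommRingCat.of k))] [Smooth (C ↘ Spec (CommRingCat.of k))] [ConnectedSpace ↥C]

/-- The higher direct images to the point are free, detecting the cohomology. -/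
theorem exists_Rpush_free {M : C.Modules} (hM : PicF.IsInvertible M) [HasInjectiveResolutions C.Modules] (p : ℕ) :
    ∃ h : ℕ, Nonempty ((Coh.Rpush (C ↘ Spec (CommRingCat.of k)) p).obj M ≅
      FlatMod.freeMod (Spec (CommRingCat.of k)) h) ∧
      (Subsingleton (Coh.HH C M p) → h = 0) := by
  haveI := isIntegral k C
  set g := C ↘ Spec (CommRingCat.of k) with hg
  haveI : Subsingleton ↥(Spec (CommRingCat.of k)) := inferInstanceAs (Subsingleton (PrimeSpectrum k))
  haveI : IsLocallyNoetherian C := LocallyOfFiniteType.isLocallyNoetherian g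
  haveI : Flat g := inferInstance
  haveI : LocallyOfFinitePresentation g :=
    AlgStLib.locallyOfFinitePresentation_of_isLocallyNoetherian g inferInstance
  haveI : GeometricallyIntegral g :=
    haveI : IsIntegral (Over.mk g).left := inferInstanceAs (IsIntegral C)
    haveI : IsProper (Over.mk g).hom := inferInstanceAs (IsProper g)
    H23.EquidimFibres.geometricallyIntegral_of_isAlgClosed (V := Over.mk g)
  obtain ⟨hfree, -⟩ := S2391.result g M (CurveDeg.isCoh_of_isInvertible hM)
    (H23.Seesaw.isFlatOver_of_isInvertible g hM) p (IsLocallyConstant.of_discrete _)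
  obtain ⟨h, ⟨ε⟩⟩ := SeesawX.exists_free_iso_of_field hfree
  obtain ⟨e⟩ := QCoh.nonempty_sections_HH (f := g) (M := M) (CurveDeg.isCoh_of_isInvertible hM).1
    (isAffineOpen_top (Spec (CommRingCat.of k))) p
  have hR : Subsingleton (Coh.HH C M p) → Subsingleton Γ((Coh.Rpush g p).obj M, ⊤) := fun h => by
    let j : ((g ⁻¹ᵁ ⊤ : C.Opens) : Scheme.{u}) ≅ C := C.topIso
    refine e.toEquiv.subsingleton_congr.2 ?_
    exact QCoh.subsingleton_HH_of_iso
      ((Scheme.Modules.restrictFunctorIsoPullback (g ⁻¹ᵁ ⊤ : C.Opens).ι).app M).symm _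
      (AVPhiSurj.subsingleton_HH_pullback j M p h)
  refine ⟨h, ⟨ε⟩, fun hs => ?_⟩
  by_contra hne
  have hz : IsZero (FlatMod.freeMod (Spec (CommRingCat.of k)) h) :=
    AVVanish.isZero_of_point ((LerayLow.subsingleton_sections_congr ε).1 (hR hs))
  have h0 : (𝟙 (Coh.structureModule (Spec (CommRingCat.of k)))) = 0 := by
    have h1 := H23.Frame.incl_proj (Spec (CommRingCat.of k)) h ⟨0, Nat.pos_of_ne_zero hne⟩ ⟨0, Nat.pos_of_ne_zero hne⟩
    rw [if_pos rfl] at h1
    rw [← h1, hz.eq_of_tgt (H23.Frame.incl _ _ _) 0, zero_comp]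
  have h2 := congr($(congrArg (fun φ => Scheme.Modules.Hom.app φ ⊤) h0) (1 : Γ(Spec (CommRingCat.of k), ⊤)))
  exact one_ne_zero (α := Γ(Spec (CommRingCat.of k), ⊤)) h2

variable (hdim : topologicalKrullDim ↥C = 1)
include hdim

/-- The box product with a nonspecial first factor. -/
theorem euler_box_nonspecial {L : C.Modules} (hL : PicF.IsInvertible L) (hL1 : Subsingleton (Coh.HH C L 1))
    {D : C.Modules} (hD : PicF.IsInvertible D) :
    Curv2.euler k (Sq k C) (CohB1.tensorMod ((Scheme.Modules.pullback (p₂ k C)).obj D)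
        ((Scheme.Modules.pullback (p₁ k C)).obj L)) = Curv2.euler k C L * Curv2.euler k C D := by
  haveI := isIntegral k C
  set g := C ↘ Spec (CommRingCat.of k) with hg
  haveI : HasInjectiveResolutions C.Modules := KFlatLib.hasInjectiveResolutions_modules
  haveI : HasInjectiveResolutions (Sq k C).Modules := KFlatLib.hasInjectiveResolutions_modules
  haveI : IsLocallyNoetherian C := LocallyOfFiniteType.isLocallyNoetherian g
  haveI : IsLocallyNoetherian (Sq k C) := LocallyOfFiniteType.isLocallyNoetherian ((Sq k C) ↘ Spec (CommRingCat.of k))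
  haveI : LocallyOfFinitePresentation g :=
    AlgStLib.locallyOfFinitePresentation_of_isLocallyNoetherian g inferInstance
  haveI : Flat g := inferInstance
  haveI : Coh.IsQCoh L := (CurveDeg.isCoh_of_isInvertible hL).1
  letI : (Spec (CommRingCat.of k)).Over (Spec (CommRingCat.of k)) := ⟨𝟙 _⟩
  haveI : IsProper ((Spec (CommRingCat.of k)) ↘ Spec (CommRingCat.of k)) := inferInstanceAs (IsProper (𝟙 _))
  haveI : (Scheme.Modules.pullback g).Additive :=
    haveI := (Scheme.Modules.pullbackPushforwardAdjunction g).isLeftAdjoint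
    Functor.additive_of_preserves_binary_products _
  have hE : FlatMod.IsFinLocFree D := H23.PullPush.isFinLocFree_of_isInvertible hD
  let F := CohB1.tensorMod ((Scheme.Modules.pullback (p₂ k C)).obj D) ((Scheme.Modules.pullback (p₁ k C)).obj L)
  have hF : PicF.IsInvertible F :=
    PicMul.isInvertible_tensor (PicClLib.isInvertible_pullback _ hD) (PicClLib.isInvertible_pullback _ hL)
  let Φ : (Spec (CommRingCat.of k)).Modules ⥤ C.Modules :=
    Scheme.Modules.pullback g ⋙ (DCoh.tensorBi (X := C)).obj D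
  have hR : ∀ n, Nonempty (Φ.obj ((Coh.Rpush g n).obj L) ≅ (Coh.Rpush (p₂ k C) n).obj F) := fun n => by
    obtain ⟨a⟩ := S0033.result g g _ _ (IsPullback.of_hasPullback g g) L n
    obtain ⟨b⟩ := S0927.result (p₂ k C) ((Scheme.Modules.pullback (p₁ k C)).obj L) D hE n
    exact ⟨((DCoh.tensorBi (X := C)).obj D).mapIso a ≪≫ b⟩
  have hz0 : ∀ n, n ≠ 0 → IsZero ((Coh.Rpush g n).obj L) := fun n hn => by
    obtain ⟨h, ⟨ε⟩, hh⟩ := exists_Rpush_free k C hL n
    obtain rfl := hh (by
      obtain rfl | h2 : n = 1 ∨ 1 < n := by omega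
      · exact hL1
      · haveI := CurveCohLib.isNoetherian_of_proper (k := k) (X := C)
        haveI : C.IsSeparated := ⟨by
          rw [← terminal.comp_from (C ↘ Spec (CommRingCat.of k))]; infer_instance⟩
        exact Snapper.subsingleton_HH_of_dim_le (d := 1) hdim.le (CurveDeg.isCoh_of_isInvertible hL).1 h2)
    refine IsZero.of_iso ((IsZero.iff_id_eq_zero _).2 ?_) ε
    rw [← H23.Frame.total, Finset.univ_eq_empty, Finset.sum_empty]
  obtain ⟨h, ⟨ε⟩, -⟩ := exists_Rpush_free k C hL 0
  have e1 : Curv2.euler k C L = h := by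
    rw [EulerOneDeg.euler_eq k g (Category.comp_id _) (CurveDeg.isCoh_of_isInvertible hL) 0 hz0,
      CurveCohLib.euler_congr ε]
    have h1 := EulerFlatPull.euler_map_freeMod k (𝟭 (Spec (CommRingCat.of k)).Modules)
      (fun B hB => CurveDeg.isCoh_of_isFinLocFree hB) h
    simp only [Functor.id_obj] at h1
    rw [h1, AVKunneth.euler_point, _root_.mul_one, pow_zero, _root_.one_mul]
  have hO : Nonempty (Φ.obj (Coh.structureModule (Spec (CommRingCat.of k))) ≅ D) := by
    refine (PicGrp.cl_eq_cl_iff _ _).1 ?_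
    show PicF.cl (CohB1.tensorMod D _) = _
    rw [PicMul.cl_tensor, show PicF.cl ((Scheme.Modules.pullback g).obj
      (Coh.structureModule (Spec (CommRingCat.of k)))) = 1 from
      (PicGrp.cl_eq_cl_iff _ _).2 (PicClLib.nonempty_pullback_structureModule g), _root_.mul_one]
  rw [EulerOneDeg.euler_eq k (p₂ k C) (show p₂ k C ≫ g = p₁ k C ≫ g from pullback.condition.symm)
      (CurveDeg.isCoh_of_isInvertible hF) 0
      (fun n hn => (Φ.map_isZero (hz0 n hn)).of_iso (hR n).some.symm),
    CurveCohLib.euler_congr ((hR 0).some.symm ≪≫ Φ.mapIso ε), e1, pow_zero, _root_.one_mul]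
  haveI : (((DCoh.tensorBi (X := C)).obj D)).Additive := inferInstance
  haveI := CurveCohLib.isNoetherian_of_proper (k := k) (X := C)
  show Curv2.euler k C (((DCoh.tensorBi (X := C)).obj D).obj ((Scheme.Modules.pullback g).obj _)) = _
  rw [CurveCohLib.euler_congr (((DCoh.tensorBi (X := C)).obj D).mapIso (SeesawX.freePullIso g h)),
    EulerFlatPull.euler_map_freeMod k ((DCoh.tensorBi (X := C)).obj D)
      (fun B hB => CurveTensor.isCoh_tensor hE (CurveDeg.isCoh_of_isFinLocFree hB)) h,
    CurveCohLib.euler_congr (KFlatLib.tensorUnitIso D)]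

/-- The Euler characteristic of a curve is affine. -/
theorem χ_mul {a b : PicF.Cl C} (ha : a ∈ inv C) (hb : b ∈ inv C) :
    SurfPairing.χ k (a * b) = SurfPairing.χ k a + SurfPairing.χ k b - SurfPairing.χ k (1 : PicF.Cl C) := by
  haveI := isIntegral k C
  obtain ⟨L, hL, rfl⟩ := ha
  obtain ⟨M, hM, rfl⟩ := hb
  have h := CurveRR.deg_tensor k hdim hL hM
  rw [← PicMul.cl_tensor, SurfPairing.χ_cl, SurfPairing.χ_cl, SurfPairing.χ_cl, SurfPairing.χ_one]
  change Curv2.deg k C (CohB1.tensorMod L M) 1 = _ at h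
  unfold Curv2.deg at h
  omega

theorem χ_pow {a : PicF.Cl C} (ha : a ∈ inv C) (n : ℕ) :
    SurfPairing.χ k (a ^ n) = SurfPairing.χ k (1 : PicF.Cl C) +
      n * (SurfPairing.χ k a - SurfPairing.χ k (1 : PicF.Cl C)) := by
  induction n with
  | zero => rw [pow_zero]; simp
  | succ n ih =>
    rw [pow_succ, χ_mul k C hdim (Submonoid.pow_mem _ ha n) ha, ih]
    push_cast
    ring

/-- The classes on the square pulled back from the factors. -/
abbrev q₁ (a : PicF.Cl C) : PicF.Cl (Sq k C) := PicF.pullCl (p₁ k C) a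

/-- The classes on the square pulled back from the factors. -/
abbrev q₂ (a : PicF.Cl C) : PicF.Cl (Sq k C) := PicF.pullCl (p₂ k C) a

theorem χ_box_good {a b : PicF.Cl C} (ha : a ∈ inv C) (hb : b ∈ inv C)
    (hg : (Curv2.genus k C : ℤ) ≤ SurfPairing.χ k a) :
    SurfPairing.χ k (q₁ k C a * q₂ k C b) = SurfPairing.χ k a * SurfPairing.χ k b := by
  haveI := isIntegral k C
  have h1 := euler_structure k C hdim
  rw [SurfPairing.χ_one] at h1
  obtain ⟨L, hL, rfl⟩ := ha
  obtain ⟨M, hM, rfl⟩ := hb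
  rw [SurfPairing.χ_cl] at hg
  have hs : Subsingleton (Coh.HH C L 1) := CurveFF.subsingleton_h1 k hdim hL (by
    unfold Curv2.deg
    omega)
  rw [_root_.mul_comm (q₁ k C (PicF.cl L))]
  exact euler_box_nonspecial k C hdim hL hs hM

/-- **The Künneth formula** for Euler characteristics. -/
theorem χ_box {a b : PicF.Cl C} (ha : a ∈ inv C) (hb : b ∈ inv C) :
    SurfPairing.χ k (q₁ k C a * q₂ k C b) = SurfPairing.χ k a * SurfPairing.χ k b := by
  obtain ⟨c, hc, hc1⟩ := exists_point k C hdim
  obtain ⟨n, hn1, hn2⟩ : ∃ n : ℕ, (Curv2.genus k C : ℤ) ≤ SurfPairing.χ k (1 : PicF.Cl C) + n ∧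
      (Curv2.genus k C : ℤ) ≤ SurfPairing.χ k a + n :=
    ⟨((Curv2.genus k C : ℤ) - SurfPairing.χ k (1 : PicF.Cl C)).toNat + ((Curv2.genus k C : ℤ) - SurfPairing.χ k a).toNat,
      by omega, by omega⟩
  set P := c ^ n with hP
  have hPi : P ∈ inv C := Submonoid.pow_mem _ hc n
  have hPχ : SurfPairing.χ k P = SurfPairing.χ k (1 : PicF.Cl C) + n := by
    rw [hP, χ_pow k C hdim hc, hc1]; ring
  have hS : topologicalKrullDim ↥(Sq k C) ≤ 2 := (dim_sq k C hdim).le
  have hm : ∀ {x y : PicF.Cl C}, x ∈ inv C → y ∈ inv C → q₁ k C x * q₁ k C y = q₁ k C (x * y) :=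
    fun {x y} _ _ => (PicMul.pullCl_mul _ x y).symm
  have hq : ∀ {x : PicF.Cl C}, x ∈ inv C → q₁ k C x ∈ inv (Sq k C) := fun hx => pullCl_mem _ hx
  have hone : q₁ k C (1 : PicF.Cl C) = 1 := PicMul.pullCl_one _
  have hone' : q₂ k C (1 : PicF.Cl C) = 1 := PicMul.pullCl_one _
  -- good classes
  have good : ∀ {x : PicF.Cl C}, x ∈ inv C → (Curv2.genus k C : ℤ) ≤ SurfPairing.χ k x →
      SurfPairing.χ k (q₁ k C x) = SurfPairing.χ k x * SurfPairing.χ k (1 : PicF.Cl C) := fun {x} hx hg => by
    have := χ_box_good k C hdim hx (one_mem (inv C)) hg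
    rwa [hone', _root_.mul_one] at this
  -- the structure sheaf
  have hO : SurfPairing.χ k (1 : PicF.Cl (Sq k C)) =
      SurfPairing.χ k (1 : PicF.Cl C) * SurfPairing.χ k (1 : PicF.Cl C) := by
    have h := third k hS (hq hPi) (hq hPi) (hq hPi)
    have hPP := mul_mem hPi hPi
    rw [hm hPi hPi, hm hPP hPi, good hPi (by omega), good hPP (by rw [χ_mul k C hdim hPi hPi]; omega),
      good (mul_mem hPP hPi) (by rw [χ_mul k C hdim hPP hPi, χ_mul k C hdim hPi hPi]; omega),
      χ_mul k C hdim hPP hPi, χ_mul k C hdim hPi hPi] at h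
    linear_combination -h
  have hg1 : ∀ {x : PicF.Cl C}, x ∈ inv C → (Curv2.genus k C : ℤ) ≤ SurfPairing.χ k x + n →
      SurfPairing.χ k (q₁ k C x) = SurfPairing.χ k x * SurfPairing.χ k (1 : PicF.Cl C) := fun {x} hx hg => by
    have h := third k hS (hq hx) (hq hPi) (hq hPi)
    have hPP := mul_mem hPi hPi
    have hxP := mul_mem hx hPi
    rw [hm hx hPi, hm hPi hPi, hm hxP hPi, good hPi (by omega), good hPP (by rw [χ_mul k C hdim hPi hPi]; omega),
      good (mul_mem hxP hPi) (by rw [χ_mul k C hdim hxP hPi, χ_mul k C hdim hx hPi]; omega),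
      good hxP (by rw [χ_mul k C hdim hx hPi]; omega), χ_mul k C hdim hxP hPi, χ_mul k C hdim hx hPi,
      χ_mul k C hdim hPi hPi, hO] at h
    linear_combination h
  obtain ⟨hbi, hmb⟩ : q₂ k C b ∈ inv (Sq k C) ∧ SurfPairing.χ k (q₂ k C b) =
      SurfPairing.χ k (1 : PicF.Cl C) * SurfPairing.χ k b := by
    refine ⟨pullCl_mem _ hb, ?_⟩
    have hPP := mul_mem hPi hPi
    have h := third k hS (hq hPi) (hq hPi) (pullCl_mem (p₂ k C) hb)
    rw [hm hPi hPi, χ_box_good k C hdim hPP hb (by rw [χ_mul k C hdim hPi hPi]; omega),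
      χ_box_good k C hdim hPi hb (by omega), good hPi (by omega),
      good hPP (by rw [χ_mul k C hdim hPi hPi]; omega), χ_mul k C hdim hPi hPi, hO] at h
    linear_combination h
  have hxP := mul_mem ha hPi
  have h := third k hS (hq ha) (hq hPi) hbi
  rw [hm ha hPi, χ_box_good k C hdim hxP hb (by rw [χ_mul k C hdim ha hPi]; omega),
    χ_box_good k C hdim hPi hb (by omega), good hPi (by omega),
    good hxP (by rw [χ_mul k C hdim ha hPi]; omega), χ_mul k C hdim ha hPi, hO, hmb, hg1 ha hn2] at h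
  linear_combination -h

/-- The pairing of two classes from the first factor. -/
theorem pair_q₁_q₁ {a b : PicF.Cl C} (ha : a ∈ inv C) (hb : b ∈ inv C) :
    SurfPairing.pair k (q₁ k C a) (q₁ k C b) = 0 := by
  have h : ∀ {x : PicF.Cl C}, x ∈ inv C →
      SurfPairing.χ k (q₁ k C x) = SurfPairing.χ k x * SurfPairing.χ k (1 : PicF.Cl C) := fun {x} hx => by
    have := χ_box k C hdim hx (one_mem (inv C))
    rwa [show q₂ k C (1 : PicF.Cl C) = 1 from PicMul.pullCl_one _, _root_.mul_one] at this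
  have h1 := h (one_mem (inv C))
  rw [show q₁ k C (1 : PicF.Cl C) = 1 from PicMul.pullCl_one _] at h1
  unfold SurfPairing.pair
  rw [show q₁ k C a * q₁ k C b = q₁ k C (a * b) from (PicMul.pullCl_mul _ a b).symm, h ha, h hb,
    h (mul_mem ha hb), h1, χ_mul k C hdim ha hb]
  ring

/-- The pairing of two classes from the second factor. -/
theorem pair_q₂_q₂ {a b : PicF.Cl C} (ha : a ∈ inv C) (hb : b ∈ inv C) :
    SurfPairing.pair k (q₂ k C a) (q₂ k C b) = 0 := by
  have h : ∀ {x : PicF.Cl C}, x ∈ inv C →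
      SurfPairing.χ k (q₂ k C x) = SurfPairing.χ k (1 : PicF.Cl C) * SurfPairing.χ k x := fun {x} hx => by
    have := χ_box k C hdim (one_mem (inv C)) hx
    rwa [show q₁ k C (1 : PicF.Cl C) = 1 from PicMul.pullCl_one _, _root_.one_mul] at this
  have h1 := h (one_mem (inv C))
  rw [show q₂ k C (1 : PicF.Cl C) = 1 from PicMul.pullCl_one _] at h1
  unfold SurfPairing.pair
  rw [show q₂ k C a * q₂ k C b = q₂ k C (a * b) from (PicMul.pullCl_mul _ a b).symm, h ha, h hb,
    h (mul_mem ha hb), h1, χ_mul k C hdim ha hb]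
  ring

/-- The pairing of classes from different factors. -/
theorem pair_q₁_q₂ {a b : PicF.Cl C} (ha : a ∈ inv C) (hb : b ∈ inv C) :
    SurfPairing.pair k (q₁ k C a) (q₂ k C b) =
      (SurfPairing.χ k a - SurfPairing.χ k (1 : PicF.Cl C)) *
        (SurfPairing.χ k b - SurfPairing.χ k (1 : PicF.Cl C)) := by
  have h1 := χ_box k C hdim (one_mem (inv C)) (one_mem (inv C))
  have h2 := χ_box k C hdim ha (one_mem (inv C))
  have h3 := χ_box k C hdim (one_mem (inv C)) hb
  rw [show q₁ k C (1 : PicF.Cl C) = 1 from PicMul.pullCl_one _] at h1 h3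
  rw [show q₂ k C (1 : PicF.Cl C) = 1 from PicMul.pullCl_one _] at h1 h2
  rw [_root_.mul_one] at h1 h2
  rw [_root_.one_mul] at h3
  unfold SurfPairing.pair
  rw [χ_box k C hdim ha hb, h1, h2, h3]
  ring

end Groth.Agent.H28.Hyp
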