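import Groth.Agent.H28.Hyp.Rel

/-! Numerical identities on the square of a hyperelliptic curve. -/

set_option autoImplicit false
set_option linter.style.haveILetI false
set_option linter.unusedSectionVars false
set_option backward.isDefEq.respectTransparency false
set_option backward.isDefEq.respectTransparency.types false
set_option maxHeartbeats 1000000
set_option synthInstance.maxHeartbeats 400000

universe u

open CategoryTheory CategoryTheory.Limits AlgebraicGeometry TopologicalSpace Opposite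

noncomputable section

namespace Groth.Agent.H28.Hyp

open Groth.Agent Groth.Agent.H23 FunFld Groth.Agent.FFLib
open scoped Groth.Agent.H23.PicMul

variable (k : Type u) [Field k] [IsAlgClosed k] (C : Scheme.{u}) [C.Over (Spec (CommRingCat.of k))]
  [IsProper (C ↘ Spec (CommRingCat.of k))] [Smooth (C ↘ Spec (CommRingCat.of k))] [ConnectedSpace ↥C]
  (hdim : topologicalKrullDim ↥C = 1)
  (σ : C ⟶ C) (hσp : σ ≫ (C ↘ Spec (CommRingCat.of k)) = (C ↘ Spec (CommRingCat.of k)))

theorem pullCl_graph_q₁ (a : PicF.Cl C) : PicF.pullCl (graph k C σ hσp) (q₁ k C a) = a := by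
  rw [q₁, PicClLib.pullCl_comp, pullback.lift_fst]
  induction a using Quot.ind with
  | mk A => exact (PicGrp.cl_eq_cl_iff _ _).2 ⟨(Scheme.Modules.pullbackId C).app A⟩

theorem pullCl_graph_q₂ (a : PicF.Cl C) : PicF.pullCl (graph k C σ hσp) (q₂ k C a) = PicF.pullCl σ a := by
  rw [q₂, PicClLib.pullCl_comp, pullback.lift_snd]

theorem pullCl_id (a : PicF.Cl C) : PicF.pullCl (𝟙 C) a = a := by
  induction a using Quot.ind with
  | mk A => exact (PicGrp.cl_eq_cl_iff _ _).2 ⟨(Scheme.Modules.pullbackId C).app A⟩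

omit [IsAlgClosed k] in
theorem χ_mul_pair {X : Scheme.{u}} [X.Over (Spec (CommRingCat.of k))] (a b : PicF.Cl X) :
    SurfPairing.χ k (a * b) =
      SurfPairing.χ k a + SurfPairing.χ k b - SurfPairing.χ k (1 : PicF.Cl X) + SurfPairing.pair k a b := by
  unfold SurfPairing.pair
  ring

include hdim in
theorem isInverse_cl {i : C ⟶ Sq k C} [IsClosedImmersion i] {N : (Sq k C).Modules}
    (hNinv : ClSub.IsInverseOf N (ClSub.idealMod i.ker)) : PicF.cl N * cI i = 1 := by
  rw [← PicMul.cl_tensor]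
  exact (PicGrp.cl_eq_cl_iff _ _).2 hNinv

include hdim in
/-- Pairing with the module of a curve which is a section of the first projection. -/
theorem pair_module {i : C ⟶ Sq k C} [IsClosedImmersion i] (hi : i ≫ p₁ k C = 𝟙 C) {n c : PicF.Cl (Sq k C)}
    (hn : n ∈ inv (Sq k C)) (hni : n * cI i = 1) (hc : c ∈ inv (Sq k C)) :
    SurfPairing.pair k n c = SurfPairing.χ k (PicF.pullCl i c) - SurfPairing.χ k (1 : PicF.Cl C) := by
  have h := pair_cI k C hdim i hi hc
  have h2 := pair_inv k (dim_sq k C hdim).le hc (cl_mem (isInvertible_ideal_curve k C hdim i)) hn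
    ((_root_.mul_comm _ _).trans hni)
  rw [SurfPairing.pair_comm k n c, h2, SurfPairing.pair_comm k c, h]
  ring

include hdim in
/-- Degrees of points. -/
theorem χ_point (x : Spec (CommRingCat.of k) ⟶ C) (hx : x ≫ (C ↘ Spec (CommRingCat.of k)) = 𝟙 _) :
    SurfPairing.χ k (cI x) = SurfPairing.χ k (1 : PicF.Cl C) - 1 := by
  haveI := isIntegral k C
  letI := CurveFF.ffAlg k C
  obtain ⟨z, hz, h⟩ := CurveCover.exists_div_ptMod k hdim (ptOf k C x hx)
  have hd := h.deg_eq
  have hF := (CurveFF.isFunctionField k C hdim).1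
  rw [cI, ker_point k C x hx, SurfPairing.χ_cl, SurfPairing.χ_one]
  rw [Divisor.deg_add, ← Finsupp.single_neg, Divisor.deg_single, FFLib.deg_eq_one hF, FFLib.deg_div hF] at hd
  unfold Curv2.deg at hd
  push_cast at hd
  linarith

variable (hσ2 : σ ≫ σ = 𝟙 C)
include hdim hσ2

theorem χ_graph_self {n : PicF.Cl (Sq k C)} (hn : n ∈ inv (Sq k C)) (hni : n * cI (graph k C σ hσp) = 1) :
    SurfPairing.χ k (PicF.pullCl (graph k C σ hσp) n) = 3 * (1 - (Curv2.genus k C : ℤ)) := by
  have h := congrArg (PicF.pullCl (graph k C σ hσp)) hni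
  rw [PicMul.pullCl_mul, PicMul.pullCl_one, graph_cI k C hdim σ hσp hσ2] at h
  have h1 := χ_mul k C hdim (pullCl_mem _ hn) (omega_facts k C hdim).1 (a := PicF.pullCl (graph k C σ hσp) n)
  rw [h, (omega_facts k C hdim).2, euler_structure k C hdim] at h1
  linarith

/-- The self-intersection of the graph. -/
theorem pair_self {n : PicF.Cl (Sq k C)} (hn : n ∈ inv (Sq k C)) (hni : n * cI (graph k C σ hσp) = 1) :
    SurfPairing.pair k n n = 2 - 2 * (Curv2.genus k C : ℤ) := by
  haveI := isClosedImmersion_graph k C σ hσp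
  rw [pair_module k C hdim (pullback.lift_fst _ _ _) hn hni hn, χ_graph_self k C hdim σ hσp hσ2 hn hni,
    euler_structure k C hdim]
  ring

/-- The Euler characteristics of the multiples of the graph. -/
theorem χ_pow_graph {n : PicF.Cl (Sq k C)} (hn : n ∈ inv (Sq k C)) (hni : n * cI (graph k C σ hσp) = 1) (r : ℕ) :
    SurfPairing.χ k (n ^ r) =
      ((Curv2.genus k C : ℤ) - 1) ^ 2 - ((Curv2.genus k C : ℤ) - 1) * r * (r + 2) := by
  haveI := isClosedImmersion_graph k C σ hσp
  have hO : SurfPairing.χ k (1 : PicF.Cl (Sq k C)) = ((Curv2.genus k C : ℤ) - 1) ^ 2 := by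
    have h := χ_box k C hdim (one_mem (inv C)) (one_mem (inv C))
    rw [show q₁ k C (1 : PicF.Cl C) = 1 from PicMul.pullCl_one _,
      show q₂ k C (1 : PicF.Cl C) = 1 from PicMul.pullCl_one _, _root_.mul_one, euler_structure k C hdim] at h
    rw [h]; ring
  have hI : SurfPairing.χ k (1 : PicF.Cl (Sq k C)) =
      SurfPairing.χ k (cI (graph k C σ hσp)) + SurfPairing.χ k (1 : PicF.Cl C) := by
    rw [SurfPairing.χ_one, SurfPairing.χ_one, SurfPairing.χ_cl]
    have h := CurveOnSurf.euler_ideal (k := k) (graph k C σ hσp)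
    have e : graph k C σ hσp ≫ ((Sq k C) ↘ Spec (CommRingCat.of k)) = C ↘ Spec (CommRingCat.of k) :=
      show graph k C σ hσp ≫ (p₁ k C ≫ _) = _ by rw [← Category.assoc, pullback.lift_fst, Category.id_comp]
    rw [euler_over_congr k _ _ e] at h
    exact h
  have hN : SurfPairing.χ k n = ((Curv2.genus k C : ℤ) - 1) ^ 2 + 3 * (1 - (Curv2.genus k C : ℤ)) := by
    have h := χ_mul_pair k n (cI (graph k C σ hσp))
    have hp := pair_inv k (dim_sq k C hdim).le hn hn (cl_mem (isInvertible_ideal_curve k C hdim _)) hni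
    rw [pair_self k C hdim σ hσp hσ2 hn hni] at hp
    rw [hni, hp] at h
    rw [euler_structure k C hdim] at hI
    linarith
  induction r with
  | zero => rw [pow_zero, hO]; simp
  | succ r ih =>
    rw [pow_succ, χ_mul_pair, ih, hN, hO, SurfPairing.pair_comm,
      pair_pow k (dim_sq k C hdim).le hn hn, pair_self k C hdim σ hσp hσ2 hn hni]
    push_cast
    ring

/-- The Euler characteristic of a box product twisted by multiples of the graph. -/
theorem χ_box_pow_graph {n : PicF.Cl (Sq k C)} (hn : n ∈ inv (Sq k C)) (hni : n * cI (graph k C σ hσp) = 1)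
    {a b : PicF.Cl C} (ha : a ∈ inv C) (hb : b ∈ inv C) (r : ℕ) :
    SurfPairing.χ k (q₁ k C a * q₂ k C b * n ^ r) =
      SurfPairing.χ k a * SurfPairing.χ k b +
        r * (SurfPairing.χ k a + SurfPairing.χ k (PicF.pullCl σ b) - 2 * SurfPairing.χ k (1 : PicF.Cl C)) -
        ((Curv2.genus k C : ℤ) - 1) * r * (r + 2) := by
  haveI := isClosedImmersion_graph k C σ hσp
  have hB : q₁ k C a * q₂ k C b ∈ inv (Sq k C) := mul_mem (pullCl_mem _ ha) (pullCl_mem _ hb)
  have hO : SurfPairing.χ k (1 : PicF.Cl (Sq k C)) = ((Curv2.genus k C : ℤ) - 1) ^ 2 := by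
    have h := χ_pow_graph k C hdim σ hσp hσ2 hn hni 0
    simpa using h
  rw [χ_mul_pair, χ_box k C hdim ha hb, χ_pow_graph k C hdim σ hσp hσ2 hn hni, hO,
    pair_pow k (dim_sq k C hdim).le hB hn, SurfPairing.pair_comm,
    pair_module k C hdim (pullback.lift_fst _ _ _) hn hni hB, PicMul.pullCl_mul, pullCl_graph_q₁ k C σ hσp,
    pullCl_graph_q₂ k C σ hσp, χ_mul k C hdim ha (pullCl_mem _ hb)]
  ring

include hσp in
theorem χ_inverse_point {x : Spec (CommRingCat.of k) ⟶ C} (hx : x ≫ (C ↘ Spec (CommRingCat.of k)) = 𝟙 _)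
    {a : PicF.Cl C} (ha : a ∈ inv C) (hax : a * cI x = 1) :
    SurfPairing.χ k a = SurfPairing.χ k (1 : PicF.Cl C) + 1 ∧
      SurfPairing.χ k (PicF.pullCl σ a) = SurfPairing.χ k (1 : PicF.Cl C) + 1 := by
  have hx' : (x ≫ σ) ≫ (C ↘ Spec (CommRingCat.of k)) = 𝟙 _ := by rw [Category.assoc, hσp, hx]
  haveI : IsClosedImmersion (x ≫ (C ↘ Spec (CommRingCat.of k))) := by rw [hx]; infer_instance
  haveI : IsClosedImmersion x := IsClosedImmersion.of_comp x (C ↘ Spec (CommRingCat.of k))
  haveI : IsIso σ := ⟨σ, hσ2, hσ2⟩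
  have hI := isInvertible_point k C hdim x hx
  have hp : IsPullback (x ≫ σ) (𝟙 _) σ x :=
    IsPullback.of_vert_isIso ⟨by rw [Category.assoc, hσ2, Category.comp_id, Category.id_comp]⟩ |>.flip.flip
  have e := pullCl_cI hp hI (isInvertible_point k C hdim _ hx')
  have h1 := χ_mul k C hdim ha (cl_mem hI)
  rw [hax, χ_point k C hdim x hx] at h1
  have h2 : SurfPairing.χ k (PicF.pullCl σ a * cI (x ≫ σ)) = SurfPairing.χ k (PicF.pullCl σ a) +
      SurfPairing.χ k (cI (x ≫ σ)) - SurfPairing.χ k (1 : PicF.Cl C) :=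
    χ_mul k C hdim (pullCl_mem σ ha) (cl_mem (isInvertible_point k C hdim _ hx'))
  rw [← e, ← PicMul.pullCl_mul, hax, PicMul.pullCl_one, e, χ_point k C hdim _ hx'] at h2
  constructor <;> linarith

end Groth.Agent.H28.Hyp
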