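import Groth.Agent.H28.Hyp.Num

/-! Further numerical identities on the square of a hyperelliptic curve. -/

set_option autoImplicit false
set_option linter.style.haveILetI false
set_option linter.unusedSectionVars false
set_option backward.isDefEq.respectTransparency false
set_option backward.isDefEq.respectTransparency.types false
set_option maxHeartbeats 1000000
set_option synthInstance.maxHeartbeats 400000

universe u

open CategoryTheory CategoryTheory.Limits AlgebraicGeometry TopologicalSpace Opposite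

noncomputable section

namespace Groth.Agent.H28.Hyp

open Groth.Agent Groth.Agent.H23
open scoped Groth.Agent.H23.PicMul

variable (k : Type u) [Field k] [IsAlgClosed k] (C : Scheme.{u}) [C.Over (Spec (CommRingCat.of k))]
  [IsProper (C ↘ Spec (CommRingCat.of k))] [Smooth (C ↘ Spec (CommRingCat.of k))] [ConnectedSpace ↥C]
  (hdim : topologicalKrullDim ↥C = 1)
  (κ : C ⟶ CohB1.ProjSpace 1 k) (hκ : κ ≫ CohB1.ProjSpace.toSpec 1 k = (C ↘ Spec (CommRingCat.of k)))
  [IsFinite κ] (hκ2 : ∀ y : ↥(CohB1.ProjSpace 1 k), κ.finrank y = 2)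
  (σ : C ⟶ C) (hσ : σ ≫ κ = κ)
  (hσp : σ ≫ (C ↘ Spec (CommRingCat.of k)) = (C ↘ Spec (CommRingCat.of k))) (hσ2 : σ ≫ σ = 𝟙 C)

include hσ in
/-- The pencil is invariant. -/
theorem pullCl_cL : PicF.pullCl σ (cL k C κ) = cL k C κ :=
  (PicGrp.cl_eq_cl_iff _ _).2
    ⟨(Scheme.Modules.pullbackComp σ κ).app _ ≪≫ (Scheme.Modules.pullbackCongr hσ).app _⟩

omit [IsProper (C ↘ Spec (CommRingCat.of k))] [Smooth (C ↘ Spec (CommRingCat.of k))] [ConnectedSpace ↥C]
  [IsFinite κ] in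
theorem pullCl_pow {Y : Scheme.{u}} (g : Y ⟶ C) (a : PicF.Cl C) (n : ℕ) :
    PicF.pullCl g (a ^ n) = PicF.pullCl g a ^ n := map_pow (PicMul.pullHom g) a n

omit [IsProper (C ↘ Spec (CommRingCat.of k))] [Smooth (C ↘ Spec (CommRingCat.of k))] [ConnectedSpace ↥C]
  [IsFinite κ] in
theorem pullCl_sq_pow {Y : Scheme.{u}} (g : Y ⟶ Sq k C) (a : PicF.Cl (Sq k C)) (n : ℕ) :
    PicF.pullCl g (a ^ n) = PicF.pullCl g a ^ n := map_pow (PicMul.pullHom g) a n

include hdim hκ hκ2 hσ hσ2 in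
/-- The Euler characteristics of the modules `F_m ⊗ N^r`. -/
theorem χ_F {n : PicF.Cl (Sq k C)} (hn : n ∈ inv (Sq k C)) (hni : n * cI (graph k C σ hσp) = 1) (m r : ℕ) :
    SurfPairing.χ k (q₁ k C (cL k C κ ^ m) * q₂ k C (cL k C κ ^ m) * n ^ r) =
      (2 * (m : ℤ) - ((Curv2.genus k C : ℤ) - 1)) ^ 2 + 4 * (m : ℤ) * r -
        ((Curv2.genus k C : ℤ) - 1) * r * (r + 2) := by
  have hL := cL_mem k C κ
  rw [χ_box_pow_graph k C hdim σ hσp hσ2 hn hni (Submonoid.pow_mem _ hL m) (Submonoid.pow_mem _ hL m),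
    pullCl_pow, pullCl_cL k C κ σ hσ, χ_pow k C hdim hL, χ_cL k C hdim κ hκ hκ2, euler_structure k C hdim]
  ring

include hdim hκ hκ2 hσ hσ2 in
/-- The restriction of `F_m ⊗ N^r` to the graph. -/
theorem graph_F {n : PicF.Cl (Sq k C)} (hni : n * cI (graph k C σ hσp) = 1) (m r s : ℕ)
    (hg : 1 ≤ Curv2.genus k C) (hs : (s : ℤ) = 2 * (m : ℤ) - ((Curv2.genus k C : ℤ) - 1) * r) :
    PicF.pullCl (graph k C σ hσp) (q₁ k C (cL k C κ ^ m) * q₂ k C (cL k C κ ^ m) * n ^ r) = cL k C κ ^ s := by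
  have h := congrArg (PicF.pullCl (graph k C σ hσp)) hni
  rw [PicMul.pullCl_mul, PicMul.pullCl_one, graph_cI k C hdim σ hσp hσ2,
    ← omega_eq_pow k C hdim κ hκ hκ2 hg] at h
  rw [PicMul.pullCl_mul, PicMul.pullCl_mul, pullCl_graph_q₁ k C σ hσp, pullCl_graph_q₂ k C σ hσp,
    pullCl_pow, pullCl_cL k C κ σ hσ, pullCl_sq_pow]
  have e : m + m = s + (Curv2.genus k C - 1) * r := by
    zify
    rw [Nat.cast_sub hg, hs]
    push_cast
    ring
  rw [← pow_add, e, pow_add, pow_mul, _root_.mul_assoc, ← mul_pow,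
    _root_.mul_comm (cL k C κ ^ _) (PicF.pullCl _ n), h, one_pow, _root_.mul_one]

end Groth.Agent.H28.Hyp
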