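import Groth.Agent.H28.Hyp.Cover

/-! The relation between the diagonal, the graph of the involution and the fibre classes. -/

set_option autoImplicit false
set_option linter.style.haveILetI false
set_option linter.unusedSectionVars false
set_option backward.isDefEq.respectTransparency false
set_option backward.isDefEq.respectTransparency.types false
set_option maxHeartbeats 1000000
set_option synthInstance.maxHeartbeats 400000

universe u

open CategoryTheory CategoryTheory.Limits MonoidalCategory CartesianMonoidalCategory AlgebraicGeometry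
open TopologicalSpace Opposite

noncomputable section

namespace Groth.Agent.H28.Hyp

open Groth.Agent Groth.Agent.H23
open scoped Groth.Agent.H23.PicMul

variable (k : Type u) [Field k] [IsAlgClosed k] (C : Scheme.{u}) [C.Over (Spec (CommRingCat.of k))]
  [IsProper (C ↘ Spec (CommRingCat.of k))] [Smooth (C ↘ Spec (CommRingCat.of k))] [ConnectedSpace ↥C]
  (σ : C ⟶ C) (hσp : σ ≫ (C ↘ Spec (CommRingCat.of k)) = (C ↘ Spec (CommRingCat.of k))) (hσ2 : σ ≫ σ = 𝟙 C)
  (a : Spec (CommRingCat.of k) ⟶ C) (ha : a ≫ (C ↘ Spec (CommRingCat.of k)) = 𝟙 _)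

/-- The horizontal slice at a point. -/
abbrev hor : C ⟶ Sq k C :=
  pullback.lift (𝟙 C) ((C ↘ Spec (CommRingCat.of k)) ≫ a) (by rw [Category.assoc, ha, Category.comp_id, Category.id_comp])

/-- The vertical slice at a point. -/
abbrev ver : C ⟶ Sq k C :=
  pullback.lift ((C ↘ Spec (CommRingCat.of k)) ≫ a) (𝟙 C) (by rw [Category.assoc, ha, Category.comp_id, Category.id_comp])

include hσ2 in
theorem isPullback_hor : IsPullback (a ≫ σ) (a ≫ σ) (hor k C a ha) (graph k C σ hσp) := by
  have hb : (a ≫ σ) ≫ (C ↘ Spec (CommRingCat.of k)) = 𝟙 _ := by rw [Category.assoc, hσp, ha]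
  refine ⟨⟨?_⟩, ⟨PullbackCone.IsLimit.mk _ (fun s => s.fst ≫ (C ↘ Spec (CommRingCat.of k))) ?_ ?_ ?_⟩⟩
  · apply pullback.hom_ext
    · simp
    · simp only [Category.assoc, pullback.lift_snd]
      rw [reassoc_of% hσp, reassoc_of% ha, hσ2, Category.comp_id]
  all_goals intro s
  all_goals
    have h1 := congrArg (· ≫ pullback.fst _ _) s.condition
    have h2 := congrArg (· ≫ pullback.snd _ _) s.condition
    simp only [Category.assoc, pullback.lift_fst, pullback.lift_snd, Category.comp_id] at h1 h2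
  · calc (s.fst ≫ (C ↘ Spec (CommRingCat.of k))) ≫ a ≫ σ = (s.fst ≫ (C ↘ Spec (CommRingCat.of k)) ≫ a) ≫ σ := by
          simp only [Category.assoc]
      _ = (s.snd ≫ σ) ≫ σ := by rw [h2]
      _ = s.fst := by rw [Category.assoc, hσ2, Category.comp_id, h1]
  · calc (s.fst ≫ (C ↘ Spec (CommRingCat.of k))) ≫ a ≫ σ = (s.fst ≫ (C ↘ Spec (CommRingCat.of k)) ≫ a) ≫ σ := by
          simp only [Category.assoc]
      _ = (s.snd ≫ σ) ≫ σ := by rw [h2]
      _ = s.snd := by rw [Category.assoc, hσ2, Category.comp_id]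
  · intro m hm _
    rw [← hm, Category.assoc, hb, Category.comp_id]

theorem isPullback_ver : IsPullback (a ≫ σ) a (ver k C a ha) (graph k C σ hσp) := by
  have hb : (a ≫ σ) ≫ (C ↘ Spec (CommRingCat.of k)) = 𝟙 _ := by rw [Category.assoc, hσp, ha]
  refine ⟨⟨?_⟩, ⟨PullbackCone.IsLimit.mk _ (fun s => s.fst ≫ (C ↘ Spec (CommRingCat.of k))) ?_ ?_ ?_⟩⟩
  · apply pullback.hom_ext
    · simp only [Category.assoc, pullback.lift_fst, Category.comp_id]
      rw [reassoc_of% hσp, reassoc_of% ha]
    · simp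
  all_goals intro s
  all_goals
    have h1 := congrArg (· ≫ pullback.fst _ _) s.condition
    have h2 := congrArg (· ≫ pullback.snd _ _) s.condition
    simp only [Category.assoc, pullback.lift_fst, pullback.lift_snd, Category.comp_id] at h1 h2
  · calc (s.fst ≫ (C ↘ Spec (CommRingCat.of k))) ≫ a ≫ σ = (s.fst ≫ (C ↘ Spec (CommRingCat.of k)) ≫ a) ≫ σ := by
          simp only [Category.assoc]
      _ = s.snd ≫ σ := by rw [h1]
      _ = s.fst := h2.symm
  · rw [Category.assoc, h1]
  · intro m hm _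
    rw [← hm, Category.assoc, hb, Category.comp_id]

theorem graph_id : graph k C (𝟙 C) (Category.id_comp _) = diag k C := by
  apply pullback.hom_ext <;> simp

variable (hdim : topologicalKrullDim ↥C = 1)
  (κ : C ⟶ CohB1.ProjSpace 1 k) (hκ : κ ≫ CohB1.ProjSpace.toSpec 1 k = (C ↘ Spec (CommRingCat.of k)))
  [IsFinite κ] (hκ2 : ∀ y : ↥(CohB1.ProjSpace 1 k), κ.finrank y = 2)
  (hσ : σ ≫ κ = κ) (hσ1 : σ ≠ 𝟙 C)

omit [IsFinite κ] in
theorem pullCl_point {c : PicF.Cl C} (hc : c ∈ inv C) (b : Spec (CommRingCat.of k) ⟶ C) :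
    PicF.pullCl ((C ↘ Spec (CommRingCat.of k)) ≫ b) c = 1 := by
  haveI : Subsingleton ↥(Spec (CommRingCat.of k)) := inferInstanceAs (Subsingleton (PrimeSpectrum k))
  haveI : Nonempty ↥(Spec (CommRingCat.of k)) := inferInstanceAs (Nonempty (PrimeSpectrum k))
  rw [← PicClLib.pullCl_comp, cl_eq_one_of_subsingleton (pullCl_mem b hc), PicMul.pullCl_one]

include hσ2 hdim hκ hκ2 hσ hσ1 in
/-- The classes restrict trivially to the horizontal slices. -/
theorem hor_rel : PicF.pullCl (hor k C a ha)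
    (cI (diag k C) * cI (graph k C σ hσp) * q₁ k C (cL k C κ) * q₂ k C (cL k C κ)) = 1 := by
  haveI := isClosedImmersion_graph k C σ hσp
  haveI := isClosedImmersion_graph k C (𝟙 C) (Category.id_comp _)
  have hb : (a ≫ σ) ≫ (C ↘ Spec (CommRingCat.of k)) = 𝟙 _ := by rw [Category.assoc, hσp, ha]
  simp only [q₁, q₂, PicMul.pullCl_mul, PicClLib.pullCl_comp]
  rw [pullback.lift_fst, pullback.lift_snd, pullCl_point k C (cL_mem k C κ) a]
  have h1 := pullCl_cI (isPullback_hor k C (𝟙 C) (Category.id_comp _) (Category.id_comp _) a ha)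
    (isInvertible_ideal_curve k C hdim _) (isInvertible_point k C hdim _ (by simpa using ha))
  rw [graph_id, show cI (a ≫ 𝟙 C) = cI a by rw [Category.comp_id]] at h1
  rw [h1, pullCl_cI (isPullback_hor k C σ hσp hσ2 a ha) (isInvertible_ideal_curve k C hdim _)
    (isInvertible_point k C hdim _ hb), _root_.mul_one]
  rw [show PicF.pullCl (𝟙 C) (cL k C κ) = cL k C κ from (PicGrp.cl_eq_cl_iff _ _).2
    ⟨(Scheme.Modules.pullbackId C).app _⟩]
  exact point_add_conj k C hdim κ hκ hκ2 σ hσ hσ1 hσp hσ2 a ha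

include hσ2 hdim hκ hκ2 hσ hσ1 in
/-- The classes restrict trivially to the vertical slices. -/
theorem ver_rel : PicF.pullCl (ver k C a ha)
    (cI (diag k C) * cI (graph k C σ hσp) * q₁ k C (cL k C κ) * q₂ k C (cL k C κ)) = 1 := by
  haveI := isClosedImmersion_graph k C σ hσp
  haveI := isClosedImmersion_graph k C (𝟙 C) (Category.id_comp _)
  have hb : (a ≫ σ) ≫ (C ↘ Spec (CommRingCat.of k)) = 𝟙 _ := by rw [Category.assoc, hσp, ha]
  simp only [q₁, q₂, PicMul.pullCl_mul, PicClLib.pullCl_comp]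
  rw [pullback.lift_fst, pullback.lift_snd, pullCl_point k C (cL_mem k C κ) a]
  have h1 := pullCl_cI (isPullback_ver k C (𝟙 C) (Category.id_comp _) a ha)
    (isInvertible_ideal_curve k C hdim _) (isInvertible_point k C hdim _ (by simpa using ha))
  rw [graph_id, show cI (a ≫ 𝟙 C) = cI a by rw [Category.comp_id]] at h1
  rw [h1, pullCl_cI (isPullback_ver k C σ hσp a ha) (isInvertible_ideal_curve k C hdim _)
    (isInvertible_point k C hdim _ hb), _root_.mul_one]
  rw [show PicF.pullCl (𝟙 C) (cL k C κ) = cL k C κ from (PicGrp.cl_eq_cl_iff _ _).2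
    ⟨(Scheme.Modules.pullbackId C).app _⟩]
  exact point_add_conj k C hdim κ hκ hκ2 σ hσ hσ1 hσp hσ2 a ha

include hσ2 hdim hκ hκ2 hσ hσ1 in
/-- The diagonal and the graph of the involution add up to the fibre classes. -/
theorem cI_rel : cI (diag k C) * cI (graph k C σ hσp) * q₁ k C (cL k C κ) * q₂ k C (cL k C κ) = 1 := by
  haveI := isIntegral k C
  haveI := isClosedImmersion_graph k C σ hσp
  set c := cI (diag k C) * cI (graph k C σ hσp) * q₁ k C (cL k C κ) * q₂ k C (cL k C κ) with hc
  have hci : c ∈ inv (Sq k C) :=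
    mul_mem (mul_mem (mul_mem (cl_mem (isInvertible_ideal_curve k C hdim _))
      (cl_mem (isInvertible_ideal_curve k C hdim _))) (pullCl_mem _ (cL_mem k C κ)))
      (pullCl_mem _ (cL_mem k C κ))
  obtain ⟨L, hL, hLc⟩ := hci
  let X : Over (Spec (CommRingCat.of k)) := Over.mk (C ↘ Spec (CommRingCat.of k))
  haveI : IsIntegral X.left := inferInstanceAs (IsIntegral C)
  haveI : IsProper X.hom := inferInstanceAs (IsProper (C ↘ Spec (CommRingCat.of k)))
  haveI : LocallyOfFiniteType X.hom := inferInstance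
  haveI : GeometricallyIntegral X.hom := H23.EquidimFibres.geometricallyIntegral_of_isAlgClosed (V := X)
  haveI : IsReduced X.left := inferInstance
  haveI : JacobsonSpace C := LocallyOfFiniteType.jacobsonSpace (C ↘ Spec (CommRingCat.of k))
  obtain ⟨O, -, hO⟩ := nonempty_inter_closedPoints (Z := (Set.univ : Set C)) ⟨genericPoint C, trivial⟩
    isClosed_univ.isLocallyClosed
  obtain ⟨⟨b, hb⟩, -⟩ := (pointEquivClosedPoint (C ↘ Spec (CommRingCat.of k))).surjective ⟨O, hO⟩
  let σ₀ : X ⟶ X := toUnit X ≫ Over.homMk b hb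
  have key : ∀ (g : C ⟶ Sq k C), PicF.pullCl g c = 1 → H23.TrivBasic.Triv ((Scheme.Modules.pullback g).obj L) :=
    fun g hg => (PicGrp.cl_eq_cl_iff _ _).1 (by
      show PicF.pullCl g (PicF.cl L) = 1
      rw [hLc, hg])
  have hT : H23.TrivBasic.Triv L := by
    refine AVSeesaw.triv_of_slices X X L hL ?_ σ₀ ?_
    · intro y hy
      refine AVSeesaw.triv_fibre_of_points X X L (fun a => ?_) y hy
      have he : (lift (𝟙 X) (toUnit X ≫ a)).left = hor k C a.left (Over.w a) := by
        apply pullback.hom_ext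
        · exact (congrArg CommaMorphism.left (lift_fst (𝟙 X) (toUnit X ≫ a))).trans (pullback.lift_fst _ _ _).symm
        · exact (congrArg CommaMorphism.left (lift_snd (𝟙 X) (toUnit X ≫ a))).trans (pullback.lift_snd _ _ _).symm
      rw [he]
      exact key _ (hor_rel k C σ hσp hσ2 _ _ hdim κ hκ hκ2 hσ hσ1)
    · have he : (lift σ₀ (𝟙 X)).left = ver k C b hb := by
        apply pullback.hom_ext
        · exact (congrArg CommaMorphism.left (lift_fst σ₀ (𝟙 X))).trans (pullback.lift_fst _ _ _).symm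
        · exact (congrArg CommaMorphism.left (lift_snd σ₀ (𝟙 X))).trans (pullback.lift_snd _ _ _).symm
      rw [he]
      exact key _ (ver_rel k C σ hσp hσ2 _ _ hdim κ hκ hκ2 hσ hσ1)
  rw [← hLc, PicMul.one_def]
  exact (PicGrp.cl_eq_cl_iff _ _).2 hT

end Groth.Agent.H28.Hyp
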